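/-
Project HK (S5175), the endgame over the field with two elements: definitions and statements.
-/
import Cfsg.Agent.HK.Top
import Cfsg.Agent.Fus.MCGroups2

set_option autoImplicit false

open Cfsg Subgroup
open scoped commutatorElement MatrixGroups

namespace CL.HK

open CL.Fus CL.Loc CL.Grp CL.Inv

universe u u'

/-! ### Maximal class -/

/-- `G` has a Sylow 2-subgroup of maximal class with the given flags -/
def MCR (G : Type) [Group G] (n : ℕ) (e d : ZMod (2 ^ n)) (c₀ c₁ : Prop) : Prop :=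
  ∃ (T : Sylow 2 G) (D : MC (T : Subgroup G) n e d),
    (c₀ ↔ HasCoprimeAut 2 (D.sp 0)) ∧ (c₁ ↔ HasCoprimeAut 2 (D.sp 1))

def AG1 : Prop := (∀ n, 2 ≤ n → ∃ (K : Type) (_ : Field K) (_ : Fintype K), Odd (Fintype.card K) ∧
  MCR PSL(2, K) n 0 0 True True) ∧ MCR PSL(3, ZMod 3) 3 (2 * zq 3) 0 True True

def AG2 : Prop := ∀ n, 2 ≤ n → ∃ (K : Type) (_ : Field K) (_ : Fintype K), Odd (Fintype.card K) ∧
  MCR (GL (Fin 2) K ⧸ center (GL (Fin 2) K)) n 0 0 True False ∧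
    MCR (GL (Fin 2) K ⧸ center (GL (Fin 2) K)) n 0 0 False True

def AG3 : Prop := ∀ n, ∃ (G : Type) (_ : Group G) (_ : Finite G) (K : Type) (_ : Field K) (_ : Fintype K) (r : ℕ),
  Odd r ∧ Fintype.card K = r ^ 2 ∧ (∃ L : Subgroup G, L.Normal ∧ L.index = 2 ∧ centralizer (L : Set G) = ⊥ ∧
    Nonempty (L ≃* PSL(2, K))) ∧ MCR G (n + 3) (2 * zq (n + 3)) 0 True False

def AM0 : Prop := ∀ (Ω : Type u) [Group Ω] (S : Subgroup Ω) [Finite S] (F : FusionSystem S) (T : Subgroup Ω)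
  (v w z s : Ω), IsPGroup 2 S → E2 F T ⊥ v w z s →
  ∃ n, (∃ D : MC S (n + 3) 0 0, (OnAut F (D.sp 0) ∨ OnAut F (D.sp 1)) ∧ Nonempty (S ≃* DihedralGroup (2 ^ (n + 3)))) ∨
    ∃ D : MC S (n + 3) (2 * zq (n + 3)) 0, OnAut F (D.sp 0) ∧ IsQuasiDihedral S ∧ Nat.card S = 2 ^ (n + 4)

def AQ : Prop := ∀ (Ω : Type u) [Group Ω] (S : Subgroup Ω) [Finite S] (F : FusionSystem S) (n : ℕ)
  (D : MC S (n + 4) (2 * zq (n + 4)) 0), Chain F → ¬ OnAut F (D.sp 1)

/-! ### The group of order 32 -/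

/-- `v ^ a * w ^ b * z ^ c * d ^ e * s ^ f` -/
@[ext] structure Hm where
  a : Bool
  b : Bool
  c : Bool
  e : Bool
  f : Bool
  deriving DecidableEq

namespace Hm

instance : Fintype Hm := Fintype.ofEquiv (Bool × Bool × Bool × Bool × Bool)
  ⟨fun x => ⟨x.1, x.2.1, x.2.2.1, x.2.2.2.1, x.2.2.2.2⟩, fun x => (x.a, x.b, x.c, x.e, x.f), fun _ => rfl, fun _ => rfl⟩

def mul (x y : Hm) : Hm :=
  ⟨x.a ^^ (bif x.f then y.b else y.a), x.b ^^ (bif x.f then y.a else y.b),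
    x.c ^^ y.c ^^ (x.f && ((y.a && y.b) ^^ y.e)) ^^ (x.b && (bif x.f then y.b else y.a)), x.e ^^ y.e, x.f ^^ y.f⟩

def inv (x : Hm) : Hm := mul (mul (mul x x) (mul x x)) (mul (mul x x) x)

instance : Mul Hm := ⟨mul⟩
instance : One Hm := ⟨⟨false, false, false, false, false⟩⟩
instance : Inv Hm := ⟨inv⟩

theorem mul_def (x y : Hm) : x * y = mul x y := rfl

theorem mul_assoc' (x y z : Hm) : x * y * z = x * (y * z) := by
  obtain ⟨a, b, c, e, f⟩ := x
  obtain ⟨a', b', c', e', f'⟩ := y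
  obtain ⟨a'', b'', c'', e'', f''⟩ := z
  simp only [mul_def, mul, Hm.mk.injEq]
  refine ⟨?_, ?_, ?_, ?_, ?_⟩
  · cases f <;> cases f' <;> simp
  · cases f <;> cases f' <;> simp
  · cases f <;> cases f' <;> cases a <;> cases b <;> cases a' <;> cases b' <;> cases a'' <;> cases b'' <;>
      cases e' <;> cases e'' <;> simp
  · simp
  · simp

instance : Group Hm := Group.ofLeftAxioms mul_assoc' (by decide) (by decide)

def v : Hm := ⟨true, false, false, false, false⟩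
def w : Hm := ⟨false, true, false, false, false⟩
def z : Hm := ⟨false, false, true, false, false⟩
def d : Hm := ⟨false, false, false, true, false⟩
def s : Hm := ⟨false, false, false, false, true⟩

/-- a subgroup given by a decidable property -/
def sub (p : Hm → Bool) (h1 : p 1 = true := by decide) (h2 : ∀ x y, p x = true → p y = true → p (x * y) = true := by decide)
    (h3 : ∀ x, p x = true → p x⁻¹ = true := by decide) : Subgroup Hm where
  carrier := {x | p x = true}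
  one_mem' := h1
  mul_mem' := fun {x y} => h2 x y
  inv_mem' := fun {x} => h3 x

/-- `D₈ × 2` -/
def T0 : Subgroup Hm := sub fun x => !x.f
/-- `⟨v, z, d⟩` -/
def A0 : Subgroup Hm := sub fun x => !x.f && !x.b
/-- `⟨w, z, d⟩` -/
def A1 : Subgroup Hm := sub fun x => !x.f && !x.a
/-- `⟨v w, d, s⟩` -/
def E0 : Subgroup Hm := sub fun x => x.a == x.b

theorem mem_T0 {x : Hm} : x ∈ T0 ↔ (!x.f) = true := Iff.rfl
theorem mem_A0 {x : Hm} : x ∈ A0 ↔ (!x.f && !x.b) = true := Iff.rfl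
theorem mem_A1 {x : Hm} : x ∈ A1 ↔ (!x.f && !x.a) = true := Iff.rfl
theorem mem_E0 {x : Hm} : x ∈ E0 ↔ (x.a == x.b) = true := Iff.rfl

/-- generators `g₁, g₂, g₃` (every element is `g₁ ^ i * g₂ ^ j * g₃ ^ k`) of the self-centralizing subgroups other than
`A0, A1, E0` -/
def cen12 : List (Hm × Hm × Hm) :=
  [(w * d * s, 1, 1), (v * w * d, s, 1), (d * s, v * w * s, 1), (w * s, 1, 1), (v * w, d, 1), (w * s, d, 1),
    (w * s, v, 1), (w * d * s, v, 1), (v * w, d, v), (w * s, v * d, 1), (w * d * s, s, 1), (w * s, w, d)]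

def gen3 (t : Hm × Hm × Hm) : Subgroup Hm := closure {t.1, t.2.1, t.2.2}

theorem card_eq : Nat.card Hm = 32 := by rw [Nat.card_eq_fintype_card]; rfl

end Hm

section
variable {Ω : Type u} [Group Ω] {S : Subgroup Ω}

/-- the defining relations of `Hm` -/
structure R32 (v w z d s : Ω) : Prop where
  v2 : v * v = 1
  w2 : w * w = 1
  z2 : z * z = 1
  d2 : d * d = 1
  s2 : s * s = 1
  wv : w * v = v * w * z
  zv : z * v = v * z
  zw : z * w = w * z
  zd : z * d = d * z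
  zs : z * s = s * z
  dv : d * v = v * d
  dw : d * w = w * d
  sv : s * v = w * s
  sd : s * d = d * z * s
  z1 : z ≠ 1

structure H32 (F : FusionSystem S) (φ : Hm →* Ω) : Prop where
  inj : Function.Injective φ
  rng : φ.range = S
  rho : ∃ f, Mor F (Hm.A0.map φ) f ∧ f (φ Hm.v) = φ Hm.z ∧ f (φ Hm.z) = φ (Hm.v * Hm.z) ∧ f (φ Hm.d) = φ Hm.d

end

def AH0 : Prop := ∀ (Ω : Type u) [Group Ω] (S : Subgroup Ω) [Finite S] (F : FusionSystem S) (T D : Subgroup Ω)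
  (v w z s : Ω), IsPGroup 2 S → E2 F T D v w z s → D ≠ ⊥ →
  ∃ w' d s', D = zpowers d ∧ R32 v w' z d s' ∧ T = closure {v, w', d} ∧ S = closure {v, d, s'}

def AH1 : Prop := ∀ (Ω : Type u) [Group Ω] (v w z d s : Ω), R32 v w z d s →
  ∃ φ : Hm →* Ω, Function.Injective φ ∧ φ Hm.v = v ∧ φ Hm.w = w ∧ φ Hm.z = z ∧ φ Hm.d = d ∧ φ Hm.s = s ∧
    φ.range = closure {v, d, s} ∧ Hm.T0.map φ = closure {v, w, d} ∧ Hm.A0.map φ = closure {v, z} ⊔ zpowers d

def AH2c : Prop := ∀ A : Subgroup Hm, centralizer (A : Set Hm) ≤ A →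
  (∃ t ∈ Hm.cen12, A = Hm.gen3 t) ∨ A = Hm.A0 ∨ A = Hm.A1 ∨ A = Hm.E0

def AH2p : Prop := ∀ t ∈ Hm.cen12, IsPGroup 2 (MulAut (Hm.gen3 t))

def AH2 : Prop := ∀ (Ω : Type u) [Group Ω] (S : Subgroup Ω) [Finite S] (F : FusionSystem S) (φ : Hm →* Ω)
  (A : Subgroup Ω), F.IsSaturated 2 → H32 F φ → F.IsEssential 2 A →
  A = Hm.A0.map φ ∨ A = Hm.A1.map φ ∨ A = Hm.E0.map φ

def AHS : Prop := IsPGroup 2 (MulAut Hm) ∧
  ∀ α : MulAut Hm.E0, Odd (orderOf α) → (∀ x : Hm.E0, (x : Hm) ∈ Hm.T0 → (α x : Hm) ∈ Hm.T0) → α = 1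

/-- the automorphisms of `⟨v, z, d⟩` in the system, read in the model -/
def AH3 : Prop := ∀ (Ω : Type u) [Group Ω] (S : Subgroup Ω) [Finite S] (F : FusionSystem S) (φ : Hm →* Ω)
  (α : MulAut Hm.A0) (f : Ω → Ω), F.IsSaturated 2 → H32 F φ → (∀ x : Hm.A0, f (φ x) = φ (α x)) →
  (Mor F (Hm.A0.map φ) f ↔ ∀ x : Hm.A0, (α x : Hm).e = (x : Hm).e ∧ ((x : Hm) = Hm.d → (α x : Hm) = Hm.d))

def AHE : Prop := Nat.card (MulAut Hm.E0) = 48

/-- the subgroup of order 24 of the automorphism group of `⟨v w, d, s⟩ = 4 ∘ Q₈` that occurs -/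
def Gam : Subgroup (MulAut Hm.E0) :=
  closure ({α | ∃ g : Hm, ∀ x : Hm.E0, (α x : Hm) = g * x * g⁻¹} ∪ {α | orderOf α = 3})

def AH4 : Prop := ∀ (Ω : Type u) [Group Ω] (S : Subgroup Ω) [Finite S]
  (F : FusionSystem S) (φ : Hm →* Ω) (α : MulAut Hm.E0) (f : Ω → Ω), F.IsSaturated 2 → H32 F φ →
  OnAut F (Hm.E0.map φ) → (∀ x : Hm.E0, f (φ x) = φ (α x)) → (Mor F (Hm.E0.map φ) f ↔ α ∈ Gam)

def AH5 : Prop := ∀ (Ω : Type u) [Group Ω] (S : Subgroup Ω) [Finite S] (F : FusionSystem S) (φ : Hm →* Ω)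
  (Ω' : Type u') [Group Ω'] (S' : Subgroup Ω') [Finite S'] (F' : FusionSystem S') (φ' : Hm →* Ω'),
  F.IsSaturated 2 → F'.IsSaturated 2 → H32 F φ → H32 F' φ' →
  (F.StronglyClosed (Hm.T0.map φ) ↔ F'.StronglyClosed (Hm.T0.map φ')) → ∃ θ η, FIso F F' θ η

/-- the automorphisms of `A₆` induced by `S₆` -/
abbrev Sg6 : Subgroup (MulAut (alternatingGroup (Fin 6))) :=
  (MulAut.conjNormal : Equiv.Perm (Fin 6) →* MulAut (alternatingGroup (Fin 6))).range

def A6a : Prop := Sg6.index = 2 ∧ ∀ α : MulAut (alternatingGroup (Fin 6)),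
  (∃ x : alternatingGroup (Fin 6), (x : Equiv.Perm (Fin 6)).IsThreeCycle ∧ (α x : Equiv.Perm (Fin 6)).IsThreeCycle) →
  α ∈ Sg6

def A6b : Prop := ∃ (P : Sylow 2 (MulAut (alternatingGroup (Fin 6))))
  (T D : Subgroup (MulAut (alternatingGroup (Fin 6)))) (v w z s : MulAut (alternatingGroup (Fin 6))),
  E2 (groupFusionSystem (P : Subgroup (MulAut (alternatingGroup (Fin 6))))) T D v w z s ∧ D ≠ ⊥ ∧
    (groupFusionSystem (P : Subgroup (MulAut (alternatingGroup (Fin 6))))).StronglyClosed T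

def A33 : Prop := ∃ (G : Type) (_ : Group G) (_ : Finite G) (P : Sylow 2 G) (φ : Hm →* G),
  Nonempty (G ≃* MulAut PSL(3, ZMod 3)) ∧ H32 (groupFusionSystem (P : Subgroup G)) φ ∧
    ¬ (groupFusionSystem (P : Subgroup G)).StronglyClosed (Hm.T0.map φ)

end CL.HK
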