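/-
Project HK, case A: the group of order 32 inside the automorphism group of `L₃(3)` (job HK-A33).
-/
import Cfsg.Agent.HK.ADefs
import Cfsg.Agent.H33.Aut
import Cfsg.Agent.H33.Model
import Cfsg.Agent.Fus.MCGroups
import Cfsg.Agent.Fus.Basic2

set_option autoImplicit false

open Cfsg Subgroup
open scoped MatrixGroups

namespace CL.HK

open CL.Fus CL.Loc CL.Grp CL.Inv CL.H33 CL.H33.Modelh

namespace A33x

local notation "c" => MulAut.conj (G := X33)

def yw : X33 := ⟨!![0, 1, 0; 1, 0, 0; 0, 0, 2], by decide +kernel⟩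
def ym : X33 := ⟨!![1, 1, 0; 1, 2, 0; 0, 0, 1], by decide +kernel⟩
def yg : X33 := ⟨!![0, 1, 0; 0, 0, 1; 1, 0, 0], by decide +kernel⟩
def yk : X33 := ⟨!![1, 0, 0; 2, 1, 0; 0, 0, 1], by decide +kernel⟩

theorem inj : Function.Injective c := by
  rw [← MonoidHom.ker_eq_bot_iff, eq_bot_iff, ← aut_center]
  intro g hg
  refine mem_center_iff.2 fun h => ?_
  have h1 : MulAut.conj g h = h := by rw [MonoidHom.mem_ker.1 hg, MulAut.one_apply]
  rw [MulAut.conj_apply, mul_inv_eq_iff_eq_mul] at h1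
  exact h1.symm

variable {σ : MulAut X33} (hσ : ∀ g : X33, (σ g).1 = (g⁻¹).1.transpose)
include hσ

theorem s1 : σ yw = yw := sig_eq hσ (by decide +kernel)
theorem s2 : σ ym = ym * xz := sig_eq hσ (by decide +kernel)
theorem s3 : σ yg = yg := sig_eq hσ (by decide +kernel)

theorem r32 : R32 (c xw) (c yw) (c xz) σ (c ym * σ) where
  v2 := by rw [← map_mul, ← map_one c]; congr 1; decide +kernel
  w2 := by rw [← map_mul, ← map_one c]; congr 1; decide +kernel
  z2 := by rw [← map_mul, ← map_one c]; congr 1; decide +kernel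
  d2 := sig_sig hσ
  s2 := by rw [oo hσ, s2 hσ, ← map_one c]; congr 1; decide +kernel
  wv := by rw [← map_mul, ← map_mul, ← map_mul]; congr 1; decide +kernel
  zv := by rw [← map_mul, ← map_mul]; congr 1; decide +kernel
  zw := by rw [← map_mul, ← map_mul]; congr 1; decide +kernel
  zd := by rw [se, sz hσ]
  zs := by rw [oe, eo, sz hσ]; congr 2; decide +kernel
  dv := by rw [se, sw hσ]
  dw := by rw [se, s1 hσ]
  sv := by rw [oe, eo, sw hσ]; congr 2; decide +kernel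
  sd := by
    rw [mul_assoc, sig_sig hσ, mul_one, se, oo hσ, sz hσ, s2 hσ]; congr 1; decide +kernel
  z1 := fun h => absurd (inj (h.trans (map_one c).symm)) (by decide +kernel)

theorem card (hn : σ ∉ (c).range) (hall : ∀ a : MulAut X33, ∃ g, a = c g ∨ a = c g * σ) :
    Nat.card (MulAut X33) = 11232 := by
  have h1 : (c).range.index = 2 := index_eq_two_iff.2 ⟨σ, fun b => by
    by_cases hb : b ∈ (c).range
    · exact Or.inr ⟨hb, fun h => hn ((mul_mem_cancel_left hb).1 h)⟩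
    · obtain ⟨g, rfl | rfl⟩ := hall b
      · exact (hb ⟨g, rfl⟩).elim
      · exact Or.inl ⟨⟨g, by rw [mul_assoc, sig_sig hσ, mul_one]⟩, hb⟩⟩
  have h2 := (c).range.card_mul_index
  rw [h1, ← Nat.card_congr (MonoidHom.ofInjective inj).toEquiv, aut_card] at h2
  exact h2.symm

end A33x

open A33x in
theorem a33 (h : AH1.{0}) : A33 := by
  obtain ⟨-, -, σ, hσ, hn, hall⟩ := aut
  have hc := card hσ hn hall
  have : Finite (MulAut X33) := Nat.finite_of_card_ne_zero (by rw [hc]; decide)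
  obtain ⟨φ, fi, hv, hw, hz, hd, hs, -, -, hA⟩ := h _ _ _ _ _ _ (r32 hσ)
  obtain ⟨P, hP⟩ := exists_sylow_eq_of_card (H := φ.range) (k := 5)
    (by rw [← Nat.card_congr (MonoidHom.ofInjective fi).toEquiv, Hm.card_eq]; rfl) (by rw [hc]; decide)
  obtain ⟨e⟩ := psl (ZMod 3) (ZMod.card 3)
  have g1 : MulAut.conj yg * φ Hm.v * (MulAut.conj yg)⁻¹ = φ Hm.z := by
    rw [hv, hz, mul_inv_eq_iff_eq_mul, ← map_mul, ← map_mul]; congr 1; decide +kernel
  have g2 : MulAut.conj yg * φ Hm.z * (MulAut.conj yg)⁻¹ = φ (Hm.v * Hm.z) := by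
    rw [map_mul φ, hv, hz, mul_inv_eq_iff_eq_mul, ← map_mul, ← map_mul, ← map_mul]; congr 1; decide +kernel
  have g3 : MulAut.conj yg * φ Hm.d * (MulAut.conj yg)⁻¹ = φ Hm.d := by
    rw [hd, mul_inv_eq_iff_eq_mul, se, s3 hσ]
  have g4 : MulAut.conj yk * φ (Hm.v * Hm.w) * (MulAut.conj yk)⁻¹ = φ (Hm.s * Hm.d) := by
    rw [map_mul φ, map_mul φ, hv, hw, hs, hd, mul_assoc _ σ, sig_sig hσ, mul_one, mul_inv_eq_iff_eq_mul, ← map_mul,
      ← map_mul, ← map_mul]
    congr 1; decide +kernel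
  refine ⟨MulAut X33, inferInstance, inferInstance, P, φ, ⟨(MulAut.congr e).symm⟩, ⟨fi, hP.symm,
    fun x => MulAut.conj yg * x * (MulAut.conj yg)⁻¹, mor_group_iff.2 ⟨hP ▸ map_le_range _ _, ?_, _, fun _ _ => rfl⟩,
    g1, g2, g3⟩, fun k => ?_⟩
  · rw [hP, hA, ← hv, ← hz, ← hd]
    change _ ≤ φ.range.comap (MulAut.conj (MulAut.conj yg)).toMonoidHom
    refine sup_le ((closure_le _).2 ?_) (zpowers_le.2 ⟨_, g3.symm⟩)
    rintro _ (rfl | rfl)
    exacts [⟨_, g1.symm⟩, ⟨_, g2.symm⟩]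
  · have m : Mor (groupFusionSystem (P : Subgroup (MulAut X33))) (zpowers (φ (Hm.v * Hm.w)))
        fun x => MulAut.conj yk * x * (MulAut.conj yk)⁻¹ := by
      refine mor_group_iff.2 ⟨hP ▸ zpowers_le.2 ⟨_, rfl⟩, ?_, _, fun _ _ => rfl⟩
      rw [hP]
      change _ ≤ φ.range.comap (MulAut.conj (MulAut.conj yk)).toMonoidHom
      exact zpowers_le.2 ⟨_, g4.symm⟩
    obtain ⟨x, hx, ex⟩ := m.mem_of_stronglyClosed k (mem_zpowers _) (mem_map_of_mem φ (Hm.mem_T0.2 (by decide)))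
    rw [fi (ex.trans g4)] at hx
    exact absurd (Hm.mem_T0.1 hx) (by decide)

end CL.HK
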