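/-
Project HK (S5175): the symmetric group has index two in the automorphism group of `A₆`.
-/
import Cfsg.Agent.HK.ADefs
import Cfsg.Agent.S4231
import Cfsg.Agent.Known.S6Aut

set_option autoImplicit false

open Cfsg Subgroup

namespace CL.HK

open Equiv Equiv.Perm

theorem a6a_exotic : ∃ θ : alternatingGroup (Fin 6) ≃* alternatingGroup (Fin 6),
    ∀ c : alternatingGroup (Fin 6), IsThreeCycle (c : Perm (Fin 6)) → ¬ IsThreeCycle (θ c : Perm (Fin 6)) := by
  obtain ⟨ψ, h1, -⟩ := Known.S6.exists_outer (Ω := Fin 6) (by simp)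
  exact ⟨(ψ.subgroupMap _).trans (MulEquiv.subgroupCongr (Known.map_alt_of_mulEquiv ψ)), fun c hc =>
    Known.S6.not_three_of_not_inner (by simp) (fun ⟨g, hg⟩ => h1 _ 0
      (Known.S6.comap_stab_of_conj (f := MulEquiv.refl _) hg 0)) hc⟩

theorem a6a : A6a := by
  have key : ∀ β : MulAut (alternatingGroup (Fin 6)), (∀ c : alternatingGroup (Fin 6), IsThreeCycle c.1 →
      IsThreeCycle (β c).1) → β ∈ Sg6 := by
    intro β hβ
    obtain ⟨g, hg⟩ := CL.Known.exists_conj_of_three_cycles (by simp) β hβ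
    exact ⟨g, MulEquiv.ext fun x => Subtype.ext (by rw [MulAut.conjNormal_apply, hg])⟩
  have hconj : ∀ (β : MulAut (alternatingGroup (Fin 6))) {x y : alternatingGroup (Fin 6)}, IsConj x y →
      IsThreeCycle (β x).1 → IsThreeCycle (β y).1 := by
    intro β x y hxy h
    have := isConj_iff_cycleType_eq.1 ((alternatingGroup (Fin 6)).subtype.map_isConj (β.toMonoidHom.map_isConj hxy))
    exact this.symm.trans h
  have hnot : ∀ β : MulAut (alternatingGroup (Fin 6)), β ∉ Sg6 → ∀ c : alternatingGroup (Fin 6),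
      IsThreeCycle c.1 → ¬ IsThreeCycle (β c).1 := fun β hβ c hc h =>
    hβ (key β fun d hd => hconj β (alternatingGroup.isThreeCycle_isConj (by simp) hc hd) h)
  have hmul : ∀ α β : MulAut (alternatingGroup (Fin 6)), α ∉ Sg6 → β ∉ Sg6 → α * β ∈ Sg6 := by
    intro α β hα hβ
    refine key _ fun c hc => ?_
    have hoc : orderOf c = 3 := by rw [← Subgroup.orderOf_coe, hc.orderOf]
    change IsThreeCycle (α (β c)).1
    by_contra h2
    have h3 := Cfsg.Agent.S4231.isConj_alt_of_two_threes (x := α c) (y := α (β c)) (by rw [α.orderOf_eq, hoc])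
      (by rw [α.orderOf_eq, β.orderOf_eq, hoc]) (hnot α hα c hc) h2
    exact hnot β hβ c hc (by simpa using hconj α⁻¹ h3 (by simpa using hc))
  obtain ⟨θ, hθ⟩ := a6a_exotic
  have h0 : θ ∉ Sg6 := by
    rintro ⟨g, rfl⟩
    have hc : IsThreeCycle (swap (0 : Fin 6) 1 * swap 0 2) := isThreeCycle_swap_mul_swap_same (by decide) (by decide)
      (by decide)
    refine hθ ⟨_, hc.mem_alternatingGroup⟩ hc ?_
    rw [MulAut.conjNormal_apply]
    exact (cycleType_conj).trans hc
  refine ⟨index_eq_two_iff.2 ⟨θ, fun b => ?_⟩, fun α ⟨x, h1, h2⟩ => by_contra fun h => hnot α h x h1 h2⟩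
  by_cases hb : b ∈ Sg6
  · exact Or.inr ⟨hb, fun h => h0 ((mul_mem_cancel_left hb).1 h)⟩
  · exact Or.inl ⟨hmul _ _ hb h0, hb⟩

end CL.HK
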