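/-
Project HK: the configuration `E2` in `Aut(A₆)`.
-/
import Cfsg.Agent.HK.ADefs
import Cfsg.Agent.Even.Amb2

set_option autoImplicit false

open Cfsg Subgroup Equiv
open scoped commutatorElement

namespace CL.HK

open CL.Fus CL.Grp CL.Even

namespace A6bx

abbrev S6 := Perm (Fin 6)
abbrev A6 := alternatingGroup (Fin 6)
abbrev B4 := Bool × Bool × Bool × Bool

def pv : S6 := swap 0 2 * swap 1 3
def pz : S6 := swap 0 1 * swap 2 3
def pd : S6 := swap 4 5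
def pw : S6 := swap 0 1 * swap 4 5
def pg : S6 := swap 1 2 * swap 1 3
def pf (x : B4) : S6 := cond x.1 pv 1 * cond x.2.1 pw 1 * cond x.2.2.1 pz 1 * cond x.2.2.2 pd 1

theorem f_mul : ∀ x y : B4, pf (x.1 ^^ y.1, x.2.1 ^^ y.2.1, x.2.2.1 ^^ y.2.2.1 ^^ (x.2.1 && y.1), x.2.2.2 ^^ y.2.2.2) =
    pf x * pf y := by decide +kernel
theorem f_inj : Function.Injective pf := by decide +kernel
theorem f_inv : ∀ x, pf (x.1, x.2.1, x.2.2.1 ^^ (x.1 && x.2.1), x.2.2.2) = (pf x)⁻¹ := by decide +kernel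
theorem t1 : ∀ x, pf x * pv = pv * pf x → pf x * pw = pw * pf x → pf x ≠ 1 →
    (Perm.sign (pf x) = 1 → pf x = pz) ∧ (Perm.sign (pf x) ≠ 1 → pf x = pd ∨ pf x = pd * pz) := by decide +kernel
theorem t2 : ∀ a b : Fin 6, (pd * swap a b) ^ 3 = 1 → pd * swap a b ≠ 1 → (pd * swap a b).support.card = 3 := by
  decide +kernel
theorem t3 : ∀ x, pf x * pf x = 1 → pf x ≠ 1 → pf x ≠ pz → Perm.sign (pf x) = 1 →
    (pf x = pw ∨ pf x = pw * pz) ∨ ∀ a b, swap a b ≠ pd * pz * pf x := by decide +kernel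
theorem t4 : ∀ x, pz * pf x = pf x * pz ∧ pd * pf x = pf x * pd ∧ ∀ y, ⁅pf x, pf y⁆ = 1 ∨ ⁅pf x, pf y⁆ = pz := by
  decide +kernel
theorem t5 : pv * pv = 1 ∧ pz * pz = 1 ∧ pd * pd = 1 ∧ pv ≠ 1 ∧ pz ≠ 1 ∧ pd ≠ 1 ∧ pv ≠ pz ∧ Perm.sign pv = 1 ∧
    Perm.sign pz = 1 ∧ Perm.sign pd ≠ 1 ∧ pg * pv * pg⁻¹ = pz ∧ pg * pz * pg⁻¹ = pv * pz ∧ pg * pd * pg⁻¹ = pd ∧
    pg * (pd * pz) * pg⁻¹ = pd * (pv * pz) ∧ pg⁻¹ * (pd * pz) * pg = pd * pv := by decide +kernel
theorem t6 : ∀ w ∈ [pw, pw * pz], w * w = 1 ∧ ⁅pv, w⁆ = pz ∧ Perm.sign w = 1 ∧ w * pv ≠ pv * w ∧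
    (pw = w ∨ pw = w * ⁅pv, w⁆) := by decide +kernel
theorem t7 : (pd * (swap 3 5 * pd * (swap 3 5)⁻¹)) ^ 3 = 1 ∧ pd * (swap 3 5 * pd * (swap 3 5)⁻¹) ≠ 1 ∧
    (pd * (swap 3 5 * pd * (swap 3 5)⁻¹)).support.card = 3 := by decide +kernel

/-- a Sylow subgroup of `S₆` -/
def T0 : Subgroup S6 where
  carrier := Set.range pf
  one_mem' := ⟨(false, false, false, false), by decide +kernel⟩
  mul_mem' := by rintro _ _ ⟨x, rfl⟩ ⟨y, rfl⟩; exact ⟨_, f_mul x y⟩
  inv_mem' := by rintro _ ⟨x, rfl⟩; exact ⟨_, f_inv x⟩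

theorem mv : pv ∈ T0 := ⟨(true, false, false, false), by decide +kernel⟩
theorem mw : pw ∈ T0 := ⟨(false, true, false, false), by decide +kernel⟩
theorem mz : pz ∈ T0 := ⟨(false, false, true, false), by decide +kernel⟩
theorem md : pd ∈ T0 := ⟨(false, false, false, true), by decide +kernel⟩

theorem T0_le {X : Subgroup S6} (h1 : pv ∈ X) (h2 : pw ∈ X) (h3 : pz ∈ X) (h4 : pd ∈ X) : T0 ≤ X := by
  rintro _ ⟨⟨a, b, c, e⟩, rfl⟩
  have k : ∀ {x : S6} (b : Bool), x ∈ X → cond b x 1 ∈ X := fun b h => by cases b; exacts [one_mem _, h]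
  exact mul_mem (mul_mem (mul_mem (k a h1) (k b h2)) (k c h3)) (k e h4)

theorem card_T0 : Nat.card T0 = 2 ^ 4 := (Nat.card_range_of_injective f_inj).trans (by simp)

theorem syl_T0 : IsSylowIn 2 T0 ⊤ := ⟨le_top, IsPGroup.of_card card_T0, by
  have := T0.card_mul_index
  rw [card_T0, Nat.card_perm, Nat.card_fin, show Nat.factorial 6 = 720 from rfl] at this
  rw [relIndex_top_right]
  omega⟩

/-- `⟨v, z, d⟩` -/
abbrev V0 : Subgroup S6 := closure {pv, pz} ⊔ zpowers pd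

theorem V0_le {X : Subgroup S6} (h1 : pv ∈ X) (h3 : pz ∈ X) (h4 : pd ∈ X) : V0 ≤ X :=
  sup_le ((closure_le _).2 (by rintro _ (rfl | rfl); exacts [h1, h3])) (zpowers_le.2 h4)

theorem nV0 : T0 ≤ 𝒩(V0) := le_norm_of_commutator_le (commutator_le.2 fun a ha b hb => by
  obtain ⟨x, rfl⟩ := V0_le mv mz md ha
  obtain ⟨y, rfl⟩ := hb
  rcases (t4 x).2.2 y with e | e <;> rw [e]
  exacts [one_mem _, mem_sup_left (subset_closure (by simp))])

abbrev ψ : S6 →* MulAut A6 := MulAut.conjNormal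

theorem inj : Function.Injective ψ := (MonoidHom.ker_eq_bot_iff _).1 (by_contra fun n => by
  have := Perm.alternatingGroup_le_of_normal (by simp) ((nontrivial_iff_ne_bot ψ.ker).2 n)
    (Perm.mem_alternatingGroup.2 t5.2.2.2.2.2.2.2.1)
  have e := MulAut.conjNormal_apply (H := A6) pv ⟨pw, Perm.mem_alternatingGroup.2 (t6 pw (by simp)).2.2.1⟩
  rw [show MulAut.conjNormal pv = 1 from this] at e
  exact (t6 pw (by simp)).2.2.2.1 (mul_inv_eq_iff_eq_mul.1 (Eq.symm e)).symm)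

/-- the automorphism of `S₆` induced by an automorphism of `A₆` -/
theorem exβ (h : Sg6.index = 2) (s : MulAut A6) : ∃ β : MulAut S6, (∀ x, ψ (β x) = s * ψ x * s⁻¹) ∧
    (∀ x : A6, β x = s x) ∧ ∀ x, Perm.sign (β x) = 1 ↔ Perm.sign x = 1 := by
  have := normal_of_index_eq_two h
  let e := MonoidHom.ofInjective inj
  let β : MulAut S6 := (e.trans (MulAut.conjNormal s : MulAut Sg6)).trans e.symm
  have h1 : ∀ x, ψ (β x) = s * ψ x * s⁻¹ := fun x =>
    congrArg Subtype.val (e.apply_symm_apply ((MulAut.conjNormal s : MulAut Sg6) (e x)))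
  have h2 : ∀ x : A6, β x = s x := fun x => inj (by
    rw [h1, MulAut.conjNormal_val, MulAut.conjNormal_val]
    ext y : 1
    simp)
  refine ⟨β, h1, h2, fun x => ⟨fun k => ?_, fun k => ?_⟩⟩
  · have := h2 (s⁻¹ ⟨β x, Perm.mem_alternatingGroup.2 k⟩)
    rw [MulAut.apply_inv_self] at this
    rw [← β.injective this]
    exact Perm.mem_alternatingGroup.1 (s⁻¹ _).2
  · rw [h2 ⟨x, Perm.mem_alternatingGroup.2 k⟩]
    exact Perm.mem_alternatingGroup.1 (s _).2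

theorem act {β : MulAut S6} (hT : ∀ x, β x ∈ T0 ↔ x ∈ T0) (hs : ∀ x, Perm.sign (β x) = 1 ↔ Perm.sign x = 1)
    (h3 : ∀ x : S6, x.IsThreeCycle → ¬ (β x).IsThreeCycle) : β pd = pd * pz ∧ β pv ∈ [pw, pw * pz] := by
  obtain ⟨v2, z2, -, v1, z1, d1, vz, sv, sz, sd, -, -, -, -, g5⟩ := t5
  have cen : ∀ x ∈ T0, (∀ y, x * pf y = pf y * x) → x ≠ 1 → (Perm.sign x = 1 → β x = pz) ∧
      (Perm.sign x ≠ 1 → β x = pd ∨ β x = pd * pz) := fun x hx c x1 => by
    have k : ∀ t ∈ T0, β x * t = t * β x := fun t ht => by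
      obtain ⟨y, e⟩ := (hT (β.symm t)).1 (by simpa using ht)
      simpa [e] using congrArg β (c y)
    obtain ⟨y, e⟩ := (hT x).2 hx
    have := t1 y (e ▸ k _ mv) (e ▸ k _ mw) (by rw [e]; simpa using x1)
    rwa [e, Ne, hs] at this
  have bz := (cen pz mz (fun y => (t4 y).1) z1).1 sz
  have sw : ∀ y : S6, y * pd * y⁻¹ = swap (y 4) (y 5) := fun y => (swap_apply_apply y 4 5).symm
  have bd := ((cen pd md (fun y => (t4 y).2.1) d1).2 sd).resolve_left fun e =>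
    h3 _ (card_support_eq_three_iff.1 t7.2.2) (card_support_eq_three_iff.1 (by
      have e1 : β (pd * (swap 3 5 * pd * (swap 3 5)⁻¹)) = pd * swap (β (swap 3 5) 4) (β (swap 3 5) 5) := by
        rw [map_mul, map_mul, map_mul, map_inv, e, sw]
      rw [e1]
      exact t2 _ _ (by rw [← e1, ← map_pow, t7.1, map_one]) (by rw [← e1]; exact fun k => t7.2.1 (β.injective (k.trans (map_one β).symm)))))
  refine ⟨bd, ?_⟩
  obtain ⟨y, e⟩ := (hT pv).2 mv
  have := t3 y (by rw [e, ← map_mul, v2, map_one]) (by rw [e]; simpa using v1)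
    (by rw [e, ← bz]; exact fun k => vz (β.injective k)) (by rw [e, hs, sv])
  rw [e] at this
  simp only [List.mem_cons, List.not_mem_nil, or_false]
  refine this.resolve_right fun k => k ((β pg)⁻¹ 4) ((β pg)⁻¹ 5) ?_
  rw [← sw, ← bd, ← map_mul, ← g5, map_mul, map_mul, map_mul, map_inv, bd, bz, mul_assoc pd, z2, mul_one, inv_inv]

end A6bx

open A6bx

theorem a6b (h : A6a) : A6b := by
  have nS := normal_of_index_eq_two h.1
  have sT : IsSylowIn 2 (T0.map ψ) Sg6 := by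
    have := syl_map ψ syl_T0
    rwa [← MonoidHom.range_eq_map] at this
  obtain ⟨P, hP⟩ := sT.isPGroup.exists_le_sylow
  have eT : (P : Subgroup (MulAut A6)) ⊓ Sg6 = T0.map ψ :=
    sT.eq_of_le P.isPGroup'.to_inf_left (le_inf hP sT.le) inf_le_right
  obtain ⟨s, hs, sN⟩ : ∃ s ∈ (P : Subgroup (MulAut A6)), s ∉ Sg6 := by
    by_contra! k
    have := index_dvd_of_le (show (P : Subgroup (MulAut A6)) ≤ Sg6 from k)
    rw [h.1] at this
    exact P.not_dvd_index this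
  have nT : s ∈ 𝒩(T0.map ψ) := by
    rw [← eT]; exact le_norm_inf le_normalizer (by rw [normalizer_eq_top]; exact le_top) hs
  obtain ⟨β, b1, b2, b3⟩ := exβ h.1 s
  obtain ⟨bd, bv⟩ := act (β := β) (fun x => by
    rw [← mem_map_iff_mem inj, b1, ← mem_normalizer_iff.1 nT, mem_map_iff_mem inj]) b3 fun x hx k =>
      sN (h.2 s ⟨⟨x, hx.mem_alternatingGroup⟩, hx, b2 ⟨x, hx.mem_alternatingGroup⟩ ▸ k⟩)
  obtain ⟨v2, z2, d2, v1, z1, d1, vz, sv, sz, sd, g1, g2, g3, -, -⟩ := t5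
  obtain ⟨w2, wc, sw, wv, ww⟩ := t6 _ bv
  have wT : β pv ∈ T0 := by
    simp only [List.mem_cons, List.not_mem_nil, or_false] at bv
    rcases bv with e | e <;> rw [e]
    exacts [mw, mul_mem mw mz]
  have mp : ∀ a b : S6, closure {ψ a, ψ b} = (closure {a, b}).map ψ := fun a b => by
    rw [MonoidHom.map_closure, Set.image_pair]
  have eV : closure {ψ pv, ψ pz} ⊔ zpowers (ψ pd) = V0.map ψ := by rw [mp, ← MonoidHom.map_zpowers, ← Subgroup.map_sup]
  have two : ∀ d ∈ zpowers pd, d = 1 ∨ d = pd := by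
    rintro _ ⟨k, rfl⟩
    have e : pd ^ (2 : ℤ) = 1 := by rw [zpow_two, d2]
    rcases Int.even_or_odd' k with ⟨j, rfl | rfl⟩
    · left; simp only [zpow_mul, e, one_zpow]
    · right; simp only [zpow_add, zpow_mul, e, one_zpow, one_mul, zpow_one]
  have nV : T0.map ψ ≤ 𝒩(V0.map ψ) := (map_mono nV0).trans (le_normalizer_map ψ)
  refine ⟨P, T0.map ψ, zpowers (ψ pd), ψ pv, ψ (β pv), ψ pz, s, ⟨hP, ?_, by rw [← map_mul, v2, map_one],
    by rw [← map_mul, w2, map_one], by rw [← map_commutatorElement, wc], fun e => z1 (inj (e.trans (map_one _).symm)),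
    ?_, ?_, ?_, ?_, hs, fun m => sN (sT.le m), nT, eT ▸ ⟨mul_mem hs hs, mul_self_mem_of_index_two h.1 s⟩, (b1 _).symm,
    ?_, ?_, fun x => ψ pg * x * (ψ pg)⁻¹, ?_, by simp only [← map_mul, ← map_inv, g1],
    by simp only [← map_mul, ← map_inv, g2], ?_⟩, fun e => d1 (inj ((zpowers_eq_bot.1 e).trans (map_one _).symm)), hP, ?_⟩
  · rw [mp, ← MonoidHom.map_zpowers, ← Subgroup.map_sup]
    congr 1
    have m1 : pv ∈ closure {pv, β pv} := subset_closure (by simp)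
    have m2 : β pv ∈ closure {pv, β pv} := subset_closure (by simp)
    have m3 : ⁅pv, β pv⁆ ∈ closure {pv, β pv} := mul_mem (mul_mem (mul_mem m1 m2) (inv_mem m1)) (inv_mem m2)
    exact le_antisymm (T0_le (mem_sup_left m1) (mem_sup_left (ww.elim (· ▸ m2) (· ▸ mul_mem m2 m3)))
      (mem_sup_left (wc ▸ m3)) (mem_sup_right (mem_zpowers _)))
      (sup_le ((closure_le _).2 (by rintro _ (rfl | rfl); exacts [mv, wT])) (zpowers_le.2 md))
  · rintro _ ⟨_, ⟨y, rfl⟩, rfl⟩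
    rw [← map_mul, (t4 y).1, map_mul]
  · rintro _ ⟨k, rfl⟩ _ ⟨_, ⟨y, rfl⟩, rfl⟩
    exact (Commute.zpow_left (Commute.map (t4 y).2.1 ψ) k).eq
  · rw [Nat.card_zpowers]
    exact orderOf_le_of_pow_eq_one two_pos (by rw [pow_two, ← map_mul, d2, map_one])
  · rw [mp, ← MonoidHom.map_zpowers, ← map_inf_eq _ _ _ inj, map_eq_bot_iff_of_injective _ inj, eq_bot_iff]
    rintro d ⟨m1, m2⟩
    have : closure {pv, β pv} ≤ A6 := (closure_le _).2 (by
      rintro _ (rfl | rfl); exacts [Perm.mem_alternatingGroup.2 sv, Perm.mem_alternatingGroup.2 sw])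
    exact (two d m1).resolve_right fun e => sd (e ▸ Perm.mem_alternatingGroup.1 (this m2))
  · rw [← MonoidHom.map_zpowers]
    rintro _ ⟨d, m, rfl⟩ n
    rcases two d m with rfl | rfl
    · exact (n (map_one _)).elim
    · rw [← b1, bd, map_mul]
  · rw [eV]
    refine le_antisymm (fun g hg => eT ▸ ⟨hg.1, by_contra fun n => wv ?_⟩) (le_inf hP nV)
    have m : g * s ∈ T0.map ψ := eT ▸ ⟨mul_mem hg.1 hs, (mul_mem_iff_of_index_two h.1).2 (iff_of_false n sN)⟩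
    have := conj_mem ((Subgroup.mul_mem_cancel_left _ hg.2).1 (nV m))
      (mem_map_of_mem ψ (mem_sup_left (subset_closure (by simp)) : pv ∈ V0))
    rw [← b1, mem_map_iff_mem inj] at this
    exact mem_centralizer_singleton_iff.1 (V0_le (X := centralizer {pv}) (mem_centralizer_singleton_iff.2 rfl)
      (mem_centralizer_singleton_iff.2 (by decide +kernel)) (mem_centralizer_singleton_iff.2 (by decide +kernel)) this)
  · rw [eV]
    refine mor_group_iff.2 ⟨(map_mono (V0_le mv mz md)).trans hP, ?_, _, fun _ _ => rfl⟩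
    rintro _ ⟨x, hx, rfl⟩
    rw [← map_inv, ← map_mul, ← map_mul]
    exact hP (mem_map_of_mem ψ (V0_le (X := T0.comap (MulAut.conj pg).toMonoidHom) (g1 ▸ mz : pg * pv * pg⁻¹ ∈ T0)
      (g2 ▸ mul_mem mv mz : pg * pz * pg⁻¹ ∈ T0) (g3.symm ▸ md : pg * pd * pg⁻¹ ∈ T0) hx))
  · rintro _ ⟨k, rfl⟩
    beta_reduce
    rw [← conj_zpow, ← map_inv, ← map_mul, ← map_mul, g3]
  · rintro R hR φ ⟨-, h2, a, h3⟩ x
    exact eT ▸ ⟨h2 x, h3 x ▸ nS.conj_mem _ (sT.le (hR x.2)) a⟩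

end CL.HK
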