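/-
Project HK (S5175), case (a) with `D = 1`: the models for the 2-groups of maximal class.
-/
import Cfsg.Agent.HK.Top
import Cfsg.Agent.Fus.MCGroups2
import Cfsg.Agent.Cls.SL2Proj
import Cfsg.Agent.Cls.SLnCard

set_option autoImplicit false

open Cfsg Cfsg.FusionSystem Subgroup CL.Inv CL.Grp Matrix
open scoped Pointwise MatrixGroups commutatorElement

namespace CL.HK.AD1

open CL.Fus

universe u

/-- a finite group with the given parameters, pattern and property exists -/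
def MR (P : ∀ (G : Type) [Group G], Prop) (n : ℕ) (e d : ZMod (2 ^ n)) (c₀ c₁ : Prop) : Prop :=
  ∃ (G : Type) (_ : Group G) (_ : Finite G) (T : Sylow 2 G) (D : MC (T : Subgroup G) n e d),
    (c₀ ↔ HasCoprimeAut 2 (D.sp 0)) ∧ (c₁ ↔ HasCoprimeAut 2 (D.sp 1)) ∧ P G

variable {P : ∀ (G : Type) [Group G], Prop}

theorem MR.real {n : ℕ} {e d : ZMod (2 ^ n)} {Ω : Type u} [Group Ω] {S : Subgroup Ω} (D : MC S n e d)
    (hn : d = 0 ∨ 3 ≤ n) {F : FusionSystem S} (hF : F.IsSaturated 2) {c₀ c₁ : Prop} (h : MR P n e d c₀ c₁)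
    (h₀ : OnAut F (D.sp 0) ↔ c₀) (h₁ : OnAut F (D.sp 1) ↔ c₁) :
    ∃ (G : Type u) (_ : Group G) (_ : Finite G) (ι : S →* G), F.IsRealizedBy ι ∧
      (∃ T : Sylow 2 G, (T : Subgroup G) = ι.range) ∧ ∃ (G₀ : Type) (_ : Group G₀), P G₀ ∧ Nonempty (G ≃* G₀) := by
  obtain ⟨G, _, _, T, D', h0, h1, hP⟩ := h
  obtain ⟨θ, η, hI⟩ := D.exists_fIso hn hF T D' (h₀.trans h0) (h₁.trans h1)
  obtain ⟨L, _, ⟨φ⟩⟩ := exists_equiv_universe.{u} G
  have : Finite L := Finite.of_equiv G φ.toEquiv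
  refine ⟨L, _, this, φ.toMonoidHom.comp hI.homOn.toHom, IsRealizedBy.comp_equiv hI.isRealizedBy_toHom φ,
    sylIn_top_iff.1 (sylIn_range_comp_equiv ?_ φ), G, _, hP, ⟨φ.symm⟩⟩
  rw [hI.toGIso.range_toHom]
  exact sylIn_top T

theorem MR.swap {n : ℕ} {d : ZMod (2 ^ n)} {c₀ c₁ : Prop} (h : MR P n 0 d c₀ c₁) : MR P n 0 d c₁ c₀ := by
  obtain ⟨G, _, _, T, D, h0, h1, hP⟩ := h
  obtain ⟨s, -, hs⟩ := D.exists_conj_sp 0 1
  refine ⟨G, _, ‹_›, T, D.shift, by rwa [D.shift_sp, zero_add], ?_, hP⟩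
  rw [D.shift_sp, show (1 + 1 : ZMod (2 ^ n)) = 0 + 2 * 1 by ring, ← hs, hasCoprimeAut_conj_smul_iff]
  exact h0

theorem mr_both {n : ℕ} {e d : ZMod (2 ^ n)} (hn : d = 0 ∨ 3 ≤ n) {G : Type} [Group G] [Finite G]
    [Group.IsPerfect G] (h : ∃ T : Sylow 2 G, Nonempty (MC (T : Subgroup G) n e d)) (hP : P G) :
    MR P n e d True True := by
  obtain ⟨T, ⟨D⟩⟩ := h
  have := D.sp_of_pResidual_eq_top hn pResidual_eq_top_of_isPerfect
  exact ⟨G, _, ‹_›, T, D, by simp [this.1], by simp [this.2], hP⟩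

theorem mr_one {n : ℕ} {d : ZMod (2 ^ n)} (hn : d = 0 ∨ 3 ≤ n) {G : Type} [Group G] [Finite G]
    (h : ∃ T : Sylow 2 G, Nonempty (MC (T : Subgroup G) n 0 d)) (h1 : pResidual 2 G ≠ ⊤)
    (h2 : ¬ HasNormalPComplement 2 G) (hP : P G) : MR P n 0 d True False := by
  obtain ⟨T, ⟨D⟩⟩ := h
  by_cases a : HasCoprimeAut 2 (D.sp 0)
  · exact ⟨G, _, ‹_›, T, D, by simp [a], iff_of_false id fun b => h1 (D.pResidual_eq_top_of_sp hn a b), hP⟩
  · exact MR.swap ⟨G, _, ‹_›, T, D, by simp [a],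
      iff_of_true trivial (by_contra fun b => h2 (D.hasNormalPComplement_of_not_sp hn a b)), hP⟩

/-- `L₂(q)` or `PGL₂(q)` with `q` odd -/
def DiG (G : Type*) [Group G] : Prop := ∃ (K : Type) (_ : Field K) (_ : Fintype K), Odd (Fintype.card K) ∧
  (Nonempty (G ≃* Matrix.ProjectiveSpecialLinearGroup (Fin 2) K) ∨
    Nonempty (G ≃* GL (Fin 2) K ⧸ Subgroup.center (GL (Fin 2) K)))

/-- an extension of degree two of `L₂(r²)` -/
def TwG (G : Type*) [Group G] : Prop := ∃ (K : Type) (_ : Field K) (_ : Fintype K) (r : ℕ), Odd r ∧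
  Fintype.card K = r ^ 2 ∧ ∃ L : Subgroup G, L.Normal ∧ L.index = 2 ∧ Subgroup.centralizer (L : Set G) = ⊥ ∧
    Nonempty (L ≃* Matrix.ProjectiveSpecialLinearGroup (Fin 2) K)

theorem DiG.equiv {G G' : Type*} [Group G] [Group G'] (h : DiG G') (φ : G ≃* G') : DiG G := by
  obtain ⟨K, _, _, h1, ⟨⟨ψ⟩⟩ | ⟨⟨ψ⟩⟩⟩ := h
  exacts [⟨K, _, _, h1, Or.inl ⟨φ.trans ψ⟩⟩, ⟨K, _, _, h1, Or.inr ⟨φ.trans ψ⟩⟩]

theorem TwG.equiv {G G' : Type*} [Group G] [Group G'] (h : TwG G') (φ : G ≃* G') : TwG G := by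
  obtain ⟨K, _, _, r, h1, h2, L, h3, h4, h5, ⟨ψ⟩⟩ := h
  refine ⟨K, inferInstance, inferInstance, r, h1, h2, L.comap φ.toMonoidHom, h3.comap _,
    (index_comap_of_surjective (f := φ.toMonoidHom) _ φ.surjective).trans h4, eq_bot_iff.2 fun x hx => ?_, ⟨?_⟩⟩
  · have : φ x ∈ Subgroup.centralizer (L : Set G') := fun y hy => by
      obtain ⟨y, rfl⟩ := φ.surjective y
      rw [← map_mul, ← map_mul, hx y hy]
    rw [h5, mem_bot, φ.map_eq_one_iff] at this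
    exact mem_bot.2 this
  · refine MulEquiv.trans ?_ ψ
    rw [comap_equiv_eq_map_symm']
    exact (φ.symm.subgroupMap L).symm

theorem mr_PGL2 {K : Type} [Field K] [Fintype K] {n m : ℕ} (hn : 2 ≤ n) (hm : Odd m)
    (h : Fintype.card K = 2 ^ n * m + 1) : MR (fun G _ => DiG G) n 0 0 True False := by
  classical
  obtain ⟨ω, hω⟩ := exists_unit_orderOf h
  obtain ⟨c, hc, h1⟩ := card_SL2_eq hn hm h
  have := isPerfect_SL2_of_unit (sq_ne_one_of_orderOf hn hω)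
  have hf : Finite PGL(2, K) := Finite.of_surjective _ ProjGenLinGroup.mk_surjective
  have hx : orderOf (CL.SL2.torusHom ω : PGL(2, K)) = 2 ^ n := (orderOf_injective _ CL.SL2.torusHom_injective ω).trans hω
  let y : PGL(2, K) := SpecialLinearGroup.toPGL (slW : SL(2, K))
  have hyy : y * y = 1 := by
    rw [← map_mul, slW_mul_slW, ← MonoidHom.mem_ker, SpecialLinearGroup.toPGL_ker, slD_mem_center_iff]; simp
  have hc' : y * CL.SL2.torusHom ω * y⁻¹ = (CL.SL2.torusHom ω)⁻¹ := by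
    rw [mul_inv_eq_iff_eq_mul, eq_inv_mul_iff_mul_eq]
    change ProjGenLinGroup.mk _ * (ProjGenLinGroup.mk _ * ProjGenLinGroup.mk _) = ProjGenLinGroup.mk _
    rw [← map_mul, ← map_mul, eq_comm, ProjGenLinGroup.mk_eq_mk_iff]
    refine ⟨ω, Units.ext ?_⟩
    ext i j
    fin_cases i <;> fin_cases j <;>
      simp [CL.SL2.affGL, CL.SL2.coe_gl, coe_slW, Matrix.mul_apply, Fin.sum_univ_two, Matrix.diagonal_apply]
  have hev : ∃ k, Fintype.card K - 1 = 2 * k := ⟨2 ^ (n - 1) * m, by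
    rw [h, Nat.add_sub_cancel, ← mul_assoc, ← pow_succ']; congr 2; omega⟩
  refine mr_one (G := PGL(2, K)) (Or.inl rfl) (exists_sylow_dih hn hx hc' hyy
    (not_two_pow_succ_dvd hc (CL.SLn.card_PGL_eq_card_SL.trans h1))) (fun h' => ?_)
    (not_hasNormalPComplement_of_mem (k := 1) (map_mem_pResidual SpecialLinearGroup.toPGL slW) (fun h' => ?_)
      (by rw [pow_one, pow_two]; exact hyy))
    ⟨K, _, _, by obtain ⟨k, hk⟩ := hev; exact ⟨k, by have := Fintype.card_pos (α := K); omega⟩, Or.inr ⟨MulEquiv.refl _⟩⟩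
  · refine index_ne_two_of_pResidual_eq_top h' (ProjectiveSpecialLinearGroup.toPGL (n := Fin 2) (R := K)).range ?_
    have h2 := CL.SLn.card_PSL_mul (ι := Fin 2) (F := K)
    obtain ⟨k, hk⟩ := hev
    rw [Fintype.card_fin, hk, Nat.gcd_mul_right_right, ← CL.SLn.card_PGL_eq_card_SL,
      Nat.card_congr (MonoidHom.ofInjective ProjectiveSpecialLinearGroup.toPGL_injective).toEquiv,
      ← (ProjectiveSpecialLinearGroup.toPGL (n := Fin 2) (R := K)).range.index_mul_card] at h2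
    exact (Nat.eq_of_mul_eq_mul_right Nat.card_pos h2).symm
  · exact not_comm_of_inv hn hx hc' (by rw [show y = 1 from h', one_mul, mul_one])

theorem twist_group {K : Type} [Field K] [Fintype K] {n m : ℕ} (hn : 2 ≤ n) (hm : Odd m)
    (h : Fintype.card K = 2 ^ n * m + 1) {ω s : Kˣ}
    (hω : orderOf ω = 2 ^ n) {σ : K ≃+* K} (hσ : tw ω σ * tw ω σ = twD (s ^ 2)) :
    ∃ H : Subgroup (MulAut SL(2, K)), ∃ (_ : tw ω σ ∈ H) (hw : MulAut.conj slW ∈ H), pResidual 2 H ≠ ⊤ ∧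
      (⟨_, hw⟩ : H) ∈ pResidual 2 H ∧ ¬ 2 ^ (n + 2) ∣ Nat.card H ∧
      ∃ L : Subgroup H, L.Normal ∧ L.index = 2 ∧ Subgroup.centralizer (L : Set H) = ⊥ ∧ Nonempty (L ≃* PSL(2, K)) := by
  have h0 : tw ω σ ∉ Inn SL(2, K) := fun h' => by
    obtain ⟨r, hr⟩ := isSquare_of_tw_mem h'
    exact not_isSquare_of_orderOf (by omega) hm h hω r hr
  have h1 := CL.Inv.mem_sup_zpowers_iff (A := Inn SL(2, K)) (w := tw ω σ) (by rw [normalizer_eq_top]; trivial)
    ⟨slD s, by rw [hσ, conj_slD]⟩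
  obtain ⟨c, hc, h2⟩ := card_PSL2_eq hn hm h
  have hp := isPerfect_SL2_of_unit (sq_ne_one_of_orderOf hn hω)
  have hk : (MulAut.conj : SL(2, K) →* MulAut SL(2, K)).ker = Subgroup.center _ := by
    ext g
    simp only [MonoidHom.mem_ker, Subgroup.mem_center_iff, MulEquiv.ext_iff, MulAut.conj_apply, MulAut.one_apply,
      mul_inv_eq_iff_eq_mul]
    exact forall_congr' fun _ => eq_comm
  refine ⟨Inn SL(2, K) ⊔ zpowers (tw ω σ), mem_sup_right (mem_zpowers _), mem_sup_left ⟨_, rfl⟩, fun h' =>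
    index_ne_two_of_pResidual_eq_top h' _ (relIndex_eq_two_of_mem_iff h0 h1),
    map_mem_pResidual (MulAut.conj.codRestrict (Inn SL(2, K) ⊔ zpowers (tw ω σ)) fun g => mem_sup_left ⟨g, rfl⟩) slW,
    not_two_pow_succ_dvd hc ?_, (Inn SL(2, K)).subgroupOf _, inferInstance, relIndex_eq_two_of_mem_iff h0 h1,
    eq_bot_iff.2 fun α hα => mem_bot.2 (Subtype.ext ?_), ⟨(subgroupOfEquivOfLe le_sup_left).trans
      ((QuotientGroup.quotientKerEquivRange _).symm.trans (QuotientGroup.quotientMulEquivOfEq hk))⟩⟩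
  · rw [card_eq_two_mul_of_mem_iff h0 h1, card_Inn_SL2, h2]; ring
  · have key : ∀ g x, g * α.1 x * g⁻¹ = α.1 g * α.1 x * (α.1 g)⁻¹ := fun g x => by
      have := congrArg (fun β : ↥(Inn SL(2, K) ⊔ zpowers (tw ω σ)) => β.1 x)
        (hα ⟨MulAut.conj g, mem_sup_left ⟨g, rfl⟩⟩ ⟨g, rfl⟩)
      simpa using this
    have key' : ∀ g x, (α.1 g)⁻¹ * g * x = x * ((α.1 g)⁻¹ * g) := fun g x => by
      obtain ⟨x, rfl⟩ := α.1.surjective x
      calc _ = (α.1 g)⁻¹ * (g * α.1 x * g⁻¹) * g := by group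
        _ = _ := by rw [key]; group
    have hle : commutator SL(2, K) ≤ α.1.toMonoidHom.eqLocus (MonoidHom.id _) := by
      rw [commutator_def, commutator_le]
      intro a _ b _
      change α.1 ⁅a, b⁆ = ⁅a, b⁆
      rw [map_commutatorElement, commutatorElement_def, commutatorElement_def, ← key a b]
      have := key' b a
      calc _ = a * α.1 b * a⁻¹ * (α.1 b)⁻¹ := rfl
        _ = a * b * (((α.1 b)⁻¹ * b)⁻¹ * a⁻¹) * (α.1 b)⁻¹ := by
          have h5 : α.1 b = b * ((α.1 b)⁻¹ * b)⁻¹ := by group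
          conv_lhs => rw [show a * α.1 b = a * (b * ((α.1 b)⁻¹ * b)⁻¹) from congrArg _ h5]
          group
        _ = a * b * (a⁻¹ * ((α.1 b)⁻¹ * b)⁻¹) * (α.1 b)⁻¹ := by
          rw [← _root_.mul_inv_rev a, ← this, _root_.mul_inv_rev _ a]
        _ = a * b * a⁻¹ * (b⁻¹ * α.1 b * (α.1 b)⁻¹) := by group
        _ = _ := by group
    rw [hp.commutator_eq_top] at hle
    exact MulEquiv.ext fun g => hle (mem_top g)

theorem mr_twisted {p : ℕ} [hp : Fact p.Prime] {n m : ℕ} (hm : Odd m) (h : p = 2 ^ (n + 2) * m + 1) :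
    MR (fun G _ => TwG G) (n + 3) (2 * zq (n + 3)) 0 True False := by
  obtain ⟨c, hc, hK⟩ := card_GF2 hm h
  obtain ⟨ω, hω⟩ := exists_unit_orderOf hK
  let σ := frobeniusEquiv (GaloisField p 2) p
  have hσ : ∀ t : (GaloisField p 2)ˣ, Units.map (σ : GaloisField p 2 →* GaloisField p 2) t = t ^ p :=
    fun t => Units.ext (by simp [σ, frobenius_def])
  have hσσ : σ * σ = 1 := RingEquiv.ext fun x => by
    have := FiniteField.pow_card x
    rw [← Nat.card_eq_fintype_card, GaloisField.card p 2 two_ne_zero] at this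
    change (x ^ p) ^ p = x
    rw [← pow_mul, ← pow_two, this]
  have h2 : tw ω σ * tw ω σ = twD ((ω ^ (2 ^ (n + 1) * m + 1)) ^ 2) := by
    rw [tw_mul, hσ, hσσ, twD_apply, ← pow_succ', ← pow_mul]
    congr 2; nth_rewrite 1 [h]; ring
  obtain ⟨H, hx, hy, h1, h3, h4, hL⟩ := twist_group (by omega) hc hK hω h2
  have hev : ∀ j, tw ω σ ^ (2 * j) = twD (ω ^ ((2 ^ (n + 1) * m + 1) * 2 * j)) := fun j => by
    rw [pow_mul, pow_two, h2, ← map_pow, ← pow_mul, ← pow_mul, mul_assoc]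
  have hr : Odd (2 ^ (n + 1) * m + 1) := ⟨2 ^ n * m, by ring⟩
  have hox : orderOf (⟨_, hx⟩ : H) = 2 ^ (n + 3) := by
    rw [Subgroup.orderOf_mk]
    refine orderOf_eq_prime_pow (fun h' => ?_) ?_
    · rw [pow_succ', hev, map_eq_one_iff _ twD_injective, ← orderOf_dvd_iff_pow_eq_one, hω] at h'
      exact not_two_pow_succ_dvd hr (by ring) h'
    · rw [pow_succ', hev, map_eq_one_iff _ twD_injective, ← orderOf_dvd_iff_pow_eq_one, hω]
      exact ⟨2 ^ (n + 1) * m + 1, by ring⟩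
  have hrel : (⟨_, hy⟩ : H) * ⟨_, hx⟩ * (⟨_, hy⟩ : H)⁻¹ = (⟨_, hx⟩ : H) ^ (2 ^ (n + 3 - 1) - 1) := by
    obtain ⟨j, hj⟩ : ∃ j, 2 ^ (n + 1) = j + 1 := ⟨_, (Nat.sub_add_cancel Nat.one_le_two_pow).symm⟩
    obtain ⟨u, rfl⟩ := hm
    refine Subtype.ext ((conj_slW_tw ω σ).trans ?_)
    rw [show 2 ^ (n + 3 - 1) - 1 = 2 * j + 1 from Nat.sub_eq_of_eq_add (by
      rw [show n + 3 - 1 = n + 1 + 1 from rfl, pow_succ, hj]; ring)]
    change _ = tw ω σ ^ (2 * j + 1)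
    rw [pow_succ, hev, twD_apply, tw_mul, one_mul]
    congr 1
    change _ = _ * ω
    rw [inv_eq_iff_mul_eq_one, ← pow_succ, ← pow_succ', ← orderOf_dvd_iff_pow_eq_one, hω]
    obtain ⟨i, hi⟩ : ∃ i, j = 2 * i + 1 := ⟨j / 2, by rw [pow_succ] at hj; omega⟩
    refine ⟨(2 * u + 1) * i + u + 1, ?_⟩
    rw [show 2 ^ (n + 3) = 4 * 2 ^ (n + 1) by ring, hj, hi]; ring
  have hyy : (⟨_, hy⟩ : H) * ⟨_, hy⟩ = 1 := Subtype.ext conj_slW_sq
  have hnc : (⟨_, hy⟩ : H) * ⟨_, hx⟩ ≠ ⟨_, hx⟩ * ⟨_, hy⟩ := fun h' => by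
    have h5 := conj_slW_tw ω σ
    rw [show MulAut.conj slW * tw ω σ = tw ω σ * MulAut.conj slW from congrArg Subtype.val h',
      mul_inv_cancel_right] at h5
    have h6 := congrArg (fun α : MulAut SL(2, GaloisField p 2) => (α slU).1 0 1) h5
    simp only [tw_apply, twFun01] at h6
    have h7 : ω = ω⁻¹ := Units.ext (mul_right_cancel₀ (by simp [slU]) h6)
    exact sq_ne_one_of_orderOf (by omega) hω (by rw [pow_two]; nth_rewrite 1 [h7]; exact inv_mul_cancel ω)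
  obtain ⟨T, hxT, hyT, ⟨D⟩⟩ := exists_sylow_MC (n := n + 3) (e := 2 * zq (n + 3)) (d := 0) (by omega)
    (Or.inr ⟨rfl, by omega⟩) (Or.inl rfl) hox (hrel.trans (pow_sub_one_eq_pow_val (by omega) hox))
    (by rw [hyy, ZMod.val_zero, pow_zero]) hnc h4
  have h0 : HasCoprimeAut 2 (D.sp 0) := by
    by_contra h0
    obtain ⟨r, hr | hr⟩ := (D.mem_sub ⟨zq _, rfl⟩ 1 _).1 (D.inf_le_of_not_sp_zero (Or.inl rfl) h0 ⟨hyT, h3⟩)
    · have h5 : orderOf (D.a (2 * r)) = 2 := hr ▸ orderOf_two_of_mul_self hyy fun h' => hnc (by rw [h']; simp)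
      rw [D.a_involution h5] at hr
      exact hnc (hr ▸ (D.z_mul_comm hxT).symm)
    · rw [hr, D.b_mul_self, D.a_eq_one_iff] at hyy
      exact D.h2 (by linear_combination hyy - r * D.h4)
  exact ⟨H, _, inferInstance, T, D, by simp [h0],
    iff_of_false id fun b => h1 (D.pResidual_eq_top_of_sp (Or.inl rfl) h0 b),
    GaloisField p 2, inferInstance, inferInstance, p, ⟨2 ^ (n + 1) * m, by rw [h]; ring⟩,
    by rw [← Nat.card_eq_fintype_card, GaloisField.card p 2 two_ne_zero], hL⟩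

theorem mr_dih {n : ℕ} (hn : 2 ≤ n) :
    MR (fun G _ => DiG G) n 0 0 True True ∧ MR (fun G _ => DiG G) n 0 0 True False := by
  obtain ⟨p, m, hp, -, hm, h⟩ := exists_prime_two_part_add (k := n + 1) (by omega)
  obtain ⟨p', m', hp', -, hm', h'⟩ := exists_prime_two_part_add (k := n) (by omega)
  have := Fact.mk hp
  have := Fact.mk hp'
  have h1 : Fintype.card (ZMod p) = 2 ^ (n + 1) * m + 1 := by rw [ZMod.card, ← h]
  obtain ⟨ω, hω⟩ := exists_unit_orderOf h1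
  have := isPerfect_SL2_of_unit (sq_ne_one_of_orderOf (by omega) hω)
  exact ⟨mr_both (Or.inl rfl) (exists_MC_PSL2 hn hm h1)
      ⟨ZMod p, _, _, ⟨2 ^ n * m, by rw [h1]; ring⟩, Or.inl ⟨MulEquiv.refl _⟩⟩,
    mr_PGL2 (K := ZMod p') hn hm' (by rw [ZMod.card, ← h'])⟩

theorem mr_tw (n : ℕ) : MR (fun G _ => TwG G) (n + 3) (2 * zq (n + 3)) 0 True False := by
  obtain ⟨p', m', hp', -, hm', h'⟩ := exists_prime_two_part_add (k := n + 2) (by omega)
  have := Fact.mk hp'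
  exact mr_twisted hm' h'

theorem mr_L33 : MR (fun G _ => Nonempty (G ≃* PSL(3, ZMod 3))) (0 + 3) (2 * zq (0 + 3)) 0 True True :=
  mr_both (Or.inl rfl) (exists_MC_PSL3 (K := ZMod 3) (n := 0) (m := 1) odd_one (by rw [ZMod.card]; rfl))
    ⟨MulEquiv.refl _⟩

end CL.HK.AD1
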