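/-
Project HK (S5175), case (a) with `D = 1`.
-/
import Cfsg.Agent.HK.ADefs
import Cfsg.Agent.HK.AD1M

set_option autoImplicit false

open Cfsg Subgroup
open scoped commutatorElement MatrixGroups

namespace CL.HK

open CL.Fus CL.Loc CL.Grp CL.Inv AD1

universe u

theorem caseA1 (h0 : AM0.{u}) (h1 : AQ.{u}) (Ω : Type u) [Group Ω] (S : Subgroup Ω) [Finite S] (F : FusionSystem S)
    (T : Subgroup Ω) (v w z s : Ω) (hS : IsPGroup 2 S) (hF : F.IsSaturated 2) (hC : Chain F)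
    (h : E2 F T ⊥ v w z s) : Concl F := by
  obtain ⟨n, ⟨D, ho, hd⟩ | ⟨D, ho, hq, hc⟩⟩ := h0 Ω S F T v w z s hS h
  · have k : ∀ {c₀ c₁ : Prop}, MR (fun G _ => DiG G) (n + 3) 0 0 c₀ c₁ → (OnAut F (D.sp 0) ↔ c₀) →
        (OnAut F (D.sp 1) ↔ c₁) → Concl F := fun m a b => by
      obtain ⟨G, _, _, ι, r1, r2, G₀, _, hP, ⟨φ⟩⟩ := m.real D (Or.inl rfl) hF a b
      exact ⟨G, _, ‹_›, ι, r1, r2, Or.inl ⟨⟨_, by
        calc 8 = 2 ^ 3 := rfl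
          _ ≤ 2 ^ (n + 3) := Nat.pow_le_pow_right two_pos (by omega), hd⟩, DiG.equiv hP φ⟩⟩
    have m := mr_dih (n := n + 3) (by omega)
    by_cases a : OnAut F (D.sp 0) <;> by_cases b : OnAut F (D.sp 1)
    · exact k m.1 (by simp [a]) (by simp [b])
    · exact k m.2 (by simp [a]) (by simp [b])
    · exact k m.2.swap (by simp [a]) (by simp [b])
    · exact (ho.elim a b).elim
  · by_cases b : OnAut F (D.sp 1)
    · rcases n with _ | n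
      · obtain ⟨G, _, _, ι, r1, r2, G₀, _, ⟨ψ⟩, ⟨φ⟩⟩ := mr_L33.real D (Or.inl rfl) hF (by simp [ho]) (by simp [b])
        exact ⟨G, _, ‹_›, ι, r1, r2, Or.inr (Or.inr (Or.inl ⟨hq, hc, ⟨φ.trans ψ⟩⟩))⟩
      · exact (h1 Ω S F n D hC b).elim
    · obtain ⟨G, _, _, ι, r1, r2, G₀, _, hP, ⟨φ⟩⟩ := (mr_tw n).real D (Or.inl rfl) hF (by simp [ho]) (by simp [b])
      exact ⟨G, _, ‹_›, ι, r1, r2, Or.inr (Or.inl ⟨hq, TwG.equiv hP φ⟩)⟩

end CL.HK
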