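/-
Project HK (S5175), case A: the groups `L₂(r)`, `L₃(3)`, and the exclusion of a quaternion essential subgroup.
-/
import Cfsg.Agent.HK.ADefs

set_option autoImplicit false

open Cfsg Subgroup
open scoped commutatorElement MatrixGroups

namespace CL.HK

open CL.Fus CL.Loc CL.Grp CL.Inv

universe u

theorem ag1_both {n : ℕ} {e d : ZMod (2 ^ n)} (hn : d = 0 ∨ 3 ≤ n) {G : Type} [Group G] [Finite G]
    [Group.IsPerfect G] (h : ∃ T : Sylow 2 G, Nonempty (MC (T : Subgroup G) n e d)) : MCR G n e d True True := by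
  obtain ⟨T, ⟨D⟩⟩ := h
  have := D.sp_of_pResidual_eq_top hn pResidual_eq_top_of_isPerfect
  exact ⟨T, D, by simp [this.1], by simp [this.2]⟩

theorem ag1 : AG1 := by
  refine ⟨fun n hn => ?_, ?_⟩
  · obtain ⟨p, m, hp, -, hm, h⟩ := exists_prime_two_part_add (k := n + 1) (by omega)
    have := Fact.mk hp
    have h1 : Fintype.card (ZMod p) = 2 ^ (n + 1) * m + 1 := by rw [ZMod.card, ← h]
    obtain ⟨ω, hω⟩ := exists_unit_orderOf h1
    have := isPerfect_SL2_of_unit (sq_ne_one_of_orderOf (by omega) hω)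
    exact ⟨ZMod p, inferInstance, inferInstance, h1 ▸ ⟨2 ^ n * m, by ring⟩,
      ag1_both (Or.inl rfl) (exists_MC_PSL2 hn hm h1)⟩
  · have : Fact (Nat.Prime 3) := ⟨Nat.prime_three⟩
    exact ag1_both (Or.inl rfl) (exists_MC_PSL3 (K := ZMod 3) (n := 0) (m := 1) odd_one (by rw [ZMod.card]; rfl))

theorem aq : AQ.{u} := by
  intro Ω _ S _ F n D hC hA
  have hq : zq (n + 4) = 2 * (2 * 2 ^ n) := by rw [zq_def, show n + 4 - 2 = n + 1 + 1 from rfl]; ring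
  have hk : ∃ c, 2 * zq (n + 4) = zq (n + 4) * c := ⟨2, by ring⟩
  rw [D.sp_of_half (by ring)] at hA
  obtain ⟨α, hα, ho, h1⟩ := hA.exists_odd
  obtain ⟨j, hj⟩ := D.aut_moves (D.sub_le _ 1) (D.a_mem_sub hk 1) ho h1
  obtain ⟨r, rfl⟩ := (D.b_mem_sub hk 1 j).1 (hj ▸ (α _).2)
  have hf := mor_autFun (D.sub_le _ 1) hα
  have ha := D.a_mem_sub_self (zq (n + 4)) 1
  have e1 : autFun α (D.a (zq (n + 4))) = D.b (1 + zq (n + 4) * r) := by rw [autFun_apply α ha, hj]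
  have hz : D.a (2 * zq (n + 4)) = D.a (zq (n + 4)) * D.a (zq (n + 4)) := by rw [D.a_mul_a, ← two_mul]
  obtain ⟨l, hl, hi⟩ := hC _ (D.a_mem (2 * zq (n + 4))) (fun e => D.h2 (D.a_eq_one_iff.1 e))
  have hc : ∀ g ∈ S, g ∈ centralizer ({D.a (2 * zq (n + 4))} : Set Ω) := fun g hg =>
    mem_centralizer_singleton_iff.2 (mul_inv_eq_iff_eq_mul.1 (D.z_comm hg))
  have e2 : l (D.b (1 + zq (n + 4) * r)) = l (D.a (zq (n + 4))) := by
    rw [← e1]
    refine hi _ _ hf (hz ▸ mul_mem ha ha) ?_ _ ha (hc _ (D.a_mem _))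
    conv_lhs => rw [hz, hf.homOn.map_mul ha ha, e1, D.b_mul_self]
    congr 1
    linear_combination r * D.e_q
  have e3 : ∀ s, l (D.b (1 + 2 * s)) = l (D.b 1) := fun s => by
    obtain ⟨i, h⟩ := D.exists_conj_b 1 s
    rw [← h]
    exact hi S _ (mor_conj F le_rfl (D.a_mem i)) (D.a_mem _) (D.z_comm (D.a_mem i)) _ (D.b_mem 1) (hc _ (D.b_mem 1))
  have e4 : ⁅D.b 1, D.b (1 + 2 * 2 ^ n)⁆ = (D.a (zq (n + 4)))⁻¹ := by
    rw [commutatorElement_def, D.conj_b_b, D.b_mul_b_inv, D.a_inv]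
    congr 1
    linear_combination (1 + 2 ^ n) * D.two_e + hq
  have h2 := hl.com _ ⟨D.b_mem 1, hc _ (D.b_mem _)⟩ _ ⟨D.b_mem (1 + 2 * 2 ^ n), hc _ (D.b_mem _)⟩ (by
    rw [e4, inv_ne_one]
    exact fun e => D.h2 (by rw [D.a_eq_one_iff.1 e, mul_zero]))
  rw [e4, hl.inv _ ⟨D.a_mem _, hc _ (D.a_mem _)⟩, ← e2, e3, max_self,
    show zq (n + 4) * r = 2 * (2 * 2 ^ n * r) by rw [hq]; ring, e3] at h2
  exact lt_irrefl _ h2

end CL.HK
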