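/-
Project HK (S5175): the fusion pattern of `PGL₂(q)`.
-/
import Cfsg.Agent.HK.ADefs

set_option autoImplicit false

open Cfsg Subgroup
open scoped MatrixGroups

namespace CL.HK

open CL.Fus CL.Loc CL.Grp CL.Inv CL.GL2

theorem AG2_swap {G : Type} [Group G] {n : ℕ} {c₀ c₁ : Prop} (h : MCR G n 0 0 c₀ c₁) : MCR G n 0 0 c₁ c₀ := by
  obtain ⟨T, D, h0, h1⟩ := h
  obtain ⟨s, -, hs⟩ := D.exists_conj_sp 0 1
  refine ⟨T, D.shift, by rwa [D.shift_sp, zero_add], ?_⟩
  rw [D.shift_sp, show (1 + 1 : ZMod (2 ^ n)) = 0 + 2 * 1 by ring, ← hs, hasCoprimeAut_conj_smul_iff]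
  exact h0

theorem AG2_one {n : ℕ} {G : Type} [Group G] [Finite G] (h : ∃ T : Sylow 2 G, Nonempty (MC (T : Subgroup G) n 0 0))
    (h1 : pResidual 2 G ≠ ⊤) (h2 : ¬ HasNormalPComplement 2 G) : MCR G n 0 0 True False := by
  obtain ⟨T, ⟨D⟩⟩ := h
  by_cases a : HasCoprimeAut 2 (D.sp 0)
  · exact ⟨T, D, by simp [a], iff_of_false id fun b => h1 (D.pResidual_eq_top_of_sp (.inl rfl) a b)⟩
  · exact AG2_swap ⟨T, D, by simp [a],
      iff_of_true trivial (by_contra fun b => h2 (D.hasNormalPComplement_of_not_sp (.inl rfl) a b))⟩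

theorem AG2_cen {K : Type} [Field K] {a b : Kˣ} : diagGL (a, b) ∈ center (GL (Fin 2) K) ↔ a = b := by
  constructor
  · intro h
    have := (mem_center_iff.1 h (swapGL K)).symm.trans (swapGL_mul_diagGL a b)
    exact congrArg Prod.fst (diagGL_injective (mul_right_cancel this))
  · rintro rfl
    refine Matrix.GeneralLinearGroup.mem_center_iff_val_mem_range_scalar.2 ⟨a, ?_⟩
    rw [coe_diagGL]
    ext i j; fin_cases i <;> fin_cases j <;> simp

theorem AG2_main {K : Type} [Field K] [Fintype K] {n m : ℕ} (hn : 2 ≤ n) (hm : Odd m)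
    (h : Fintype.card K = 2 ^ n * m + 1) : MCR (GL (Fin 2) K ⧸ center (GL (Fin 2) K)) n 0 0 True False := by
  obtain ⟨ω, hω⟩ := exists_unit_orderOf h
  obtain ⟨c, hc, h1⟩ := card_SL2_eq hn hm h
  let π : GL (Fin 2) K →* GL (Fin 2) K ⧸ center (GL (Fin 2) K) := QuotientGroup.mk' _
  have hπ : ∀ g, π g = 1 ↔ g ∈ center (GL (Fin 2) K) := fun g => QuotientGroup.eq_one_iff _
  have hi : Function.Injective ((π.comp diagGL).comp (MonoidHom.inl Kˣ Kˣ)) :=
    (injective_iff_map_eq_one _).2 fun a ha => AG2_cen.1 ((hπ _).1 ha)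
  have ω2 := sq_ne_one_of_orderOf hn hω
  refine AG2_one (exists_sylow_dih hn (x := π (diagGL (ω, 1))) (y := π (swapGL K))
    ((orderOf_injective _ hi ω).trans hω) ?_ ?_
    (not_two_pow_succ_dvd hc (CL.SLn.card_PGL_eq_card_SL.trans h1))) (fun k => ?_) ?_
  · rw [← map_mul, swapGL_mul_diagGL, map_mul, mul_inv_cancel_right, eq_inv_iff_mul_eq_one, ← map_mul, ← map_mul, hπ]
    exact AG2_cen.2 (mul_comm _ _)
  · rw [← map_mul, ← sq, orderOf_dvd_iff_pow_eq_one.1 orderOf_swapGL.dvd, map_one]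
  · have := pResidual_le_ker (p := 2) (QuotientGroup.lift (center (GL (Fin 2) K))
      ((QuotientGroup.mk' (powMonoidHom 2 : Kˣ →* Kˣ).range).comp Matrix.GeneralLinearGroup.det) fun g hg => by
        rw [Matrix.GeneralLinearGroup.center_eq_range_scalar] at hg
        obtain ⟨a, rfl⟩ := hg
        exact (QuotientGroup.eq_one_iff _).2 ⟨a, Units.ext (by simp)⟩) (fun x => ⟨1, by
      obtain ⟨x, rfl⟩ := QuotientGroup.mk_surjective x
      exact (QuotientGroup.eq_one_iff (x ^ 2 ^ 1)).2 ⟨x, rfl⟩⟩) (k ▸ mem_top (π (diagGL (ω, 1))))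
    obtain ⟨s, hs⟩ := (QuotientGroup.eq_one_iff _).1 this
    exact not_isSquare_of_orderOf (by omega) hm h hω s (Units.ext (by simpa using (congrArg Units.val hs).symm))
  · have := isPerfect_SL2_of_unit ω2
    refine not_hasNormalPComplement_of_mem (k := 1) (map_mem_pResidual (π.comp Matrix.SpecialLinearGroup.toGL) slW)
      (fun k => ω2 ?_) ?_
    · have h2 := mem_center_iff.1 ((Matrix.SpecialLinearGroup.toGL_mem_center_iff _).1 ((hπ _).1 k)) (slD ω)
      have h3 := slW_conj ω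
      rw [← h2, mul_inv_cancel_right, eq_inv_iff_mul_eq_one, ← map_mul, map_eq_one_iff _ slD_injective] at h3
      rwa [sq]
    · rw [pow_one, sq, ← map_mul, slW_mul_slW]
      exact (hπ _).2 ((Matrix.SpecialLinearGroup.toGL_mem_center_iff _).2 (slD_mem_center_iff.2 (by simp)))

theorem ag2 : AG2 := fun n hn => by
  obtain ⟨p, m, hp, -, hm, h⟩ := exists_prime_two_part_add (k := n) (by omega)
  have := Fact.mk hp
  have h' : Fintype.card (ZMod p) = 2 ^ n * m + 1 := by rw [ZMod.card, ← h]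
  exact ⟨ZMod p, _, _, h' ▸ (((Nat.even_pow.2 ⟨even_two, by omega⟩).mul_right m).add_one), AG2_main hn hm h',
    AG2_swap (AG2_main hn hm h')⟩

end CL.HK
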