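/-
Project HK (S5175), case A: the twisted extension of `PSL₂(r²)` with a semidihedral Sylow 2-subgroup.
-/
import Cfsg.Agent.HK.ADefs

set_option autoImplicit false

open Cfsg Cfsg.FusionSystem Subgroup CL.Inv CL.Grp Matrix
open scoped Pointwise MatrixGroups commutatorElement

namespace CL.HK

open CL.Fus CL.Loc

theorem ag3_cent {X : Type*} [Group X] [h : Group.IsPerfect X] (α : MulAut X)
    (hα : ∀ g : X, MulAut.conj g * α = α * MulAut.conj g) : α = 1 := by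
  have h1 : ∀ g x : X, α g * x * (α g)⁻¹ = g * x * g⁻¹ := fun g x => by
    have := congrArg (fun β : MulAut X => β (α⁻¹ x)) (hα g)
    simpa using this.symm
  have h2 : commutator X ≤ (α : X →* X).eqLocus (MonoidHom.id X) := by
    rw [commutator_def, commutator_le]
    intro a _ b _
    change α ⁅a, b⁆ = ⁅a, b⁆
    have h3 := h1 b a⁻¹
    rw [map_commutatorElement, commutatorElement_def, commutatorElement_def, h1]
    calc a * α b * a⁻¹ * (α b)⁻¹ = a * (α b * a⁻¹ * (α b)⁻¹) := by group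
      _ = _ := by rw [h3]; group
  rw [h.commutator_eq_top] at h2
  exact MulEquiv.ext fun g => h2 (mem_top g)

theorem ag3_iso {K : Type*} [Field K] : Nonempty (Inn SL(2, K) ≃* PSL(2, K)) := by
  have : (MulAut.conj : SL(2, K) →* MulAut SL(2, K)).ker = Subgroup.center _ := by
    ext g
    simp only [MonoidHom.mem_ker, Subgroup.mem_center_iff, MulEquiv.ext_iff, MulAut.conj_apply, MulAut.one_apply,
      mul_inv_eq_iff_eq_mul]
    exact forall_congr' fun _ => eq_comm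
  exact ⟨(QuotientGroup.quotientKerEquivRange _).symm.trans (QuotientGroup.quotientMulEquivOfEq this)⟩

theorem ag3_twist {K : Type*} [Field K] [Fintype K] {n m : ℕ} (hn : 2 ≤ n) (hm : Odd m)
    (h : Fintype.card K = 2 ^ n * m + 1) {ω s : Kˣ}
    (hω : orderOf ω = 2 ^ n) {σ : K ≃+* K} (hσ : tw ω σ * tw ω σ = twD (s ^ 2)) :
    ∃ H : Subgroup (MulAut SL(2, K)), ∃ (_ : tw ω σ ∈ H) (hw : MulAut.conj slW ∈ H), pResidual 2 H ≠ ⊤ ∧
      (⟨_, hw⟩ : H) ∈ pResidual 2 H ∧ ¬ 2 ^ (n + 2) ∣ Nat.card H ∧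
      ∃ L : Subgroup H, L.Normal ∧ L.index = 2 ∧ centralizer (L : Set H) = ⊥ ∧ Nonempty (L ≃* PSL(2, K)) := by
  have h0 : tw ω σ ∉ Inn SL(2, K) := fun h' => by
    obtain ⟨r, hr⟩ := isSquare_of_tw_mem h'
    exact not_isSquare_of_orderOf (by omega) hm h hω r hr
  have h1 := mem_sup_zpowers_iff (A := Inn SL(2, K)) (w := tw ω σ) (by rw [normalizer_eq_top]; trivial)
    ⟨slD s, by rw [hσ, conj_slD]⟩
  obtain ⟨c, hc, h2⟩ := card_PSL2_eq hn hm h
  have := isPerfect_SL2_of_unit (sq_ne_one_of_orderOf hn hω)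
  obtain ⟨f⟩ := ag3_iso (K := K)
  refine ⟨Inn SL(2, K) ⊔ zpowers (tw ω σ), mem_sup_right (mem_zpowers _), mem_sup_left ⟨_, rfl⟩, fun h' =>
    index_ne_two_of_pResidual_eq_top h' _ (relIndex_eq_two_of_mem_iff h0 h1),
    map_mem_pResidual (MulAut.conj.codRestrict (Inn SL(2, K) ⊔ zpowers (tw ω σ)) fun g => mem_sup_left ⟨g, rfl⟩) slW,
    not_two_pow_succ_dvd hc ?_, (Inn SL(2, K)).subgroupOf _, inferInstance, relIndex_eq_two_of_mem_iff h0 h1,
    eq_bot_iff.2 fun α hα => mem_bot.2 (Subtype.ext (ag3_cent α.1 fun g => ?_)),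
    ⟨(subgroupOfEquivOfLe le_sup_left).trans f⟩⟩
  · rw [card_eq_two_mul_of_mem_iff h0 h1, card_Inn_SL2, h2]; ring
  · exact congrArg Subtype.val (hα ⟨MulAut.conj g, mem_sup_left ⟨g, rfl⟩⟩ ⟨g, rfl⟩)

theorem ag3 : AG3 := by
  intro n
  obtain ⟨p, m, hp, hp3, hm, h⟩ := exists_prime_two_part_add (k := n + 2) (by omega)
  have := Fact.mk hp
  obtain ⟨c, hc, hK⟩ := card_GF2 hm h
  obtain ⟨ω, hω⟩ := exists_unit_orderOf hK
  let σ := frobeniusEquiv (GaloisField p 2) p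
  have hσ : ∀ t : (GaloisField p 2)ˣ, Units.map (σ : GaloisField p 2 →* GaloisField p 2) t = t ^ p :=
    fun t => Units.ext (by simp [σ, frobenius_def])
  have hσσ : σ * σ = 1 := RingEquiv.ext fun x => by
    have := FiniteField.pow_card x
    rw [← Nat.card_eq_fintype_card, GaloisField.card p 2 two_ne_zero] at this
    change (x ^ p) ^ p = x
    rw [← pow_mul, ← pow_two, this]
  have h2 : tw ω σ * tw ω σ = twD ((ω ^ (2 ^ (n + 1) * m + 1)) ^ 2) := by
    rw [tw_mul, hσ, hσσ, twD_apply, ← pow_succ', ← pow_mul]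
    congr 2; nth_rewrite 1 [h]; ring
  obtain ⟨H, hx, hy, h1, h3, h4, hL⟩ := ag3_twist (by omega) hc hK hω h2
  have hev : ∀ j, tw ω σ ^ (2 * j) = twD (ω ^ ((2 ^ (n + 1) * m + 1) * 2 * j)) := fun j => by
    rw [pow_mul, pow_two, h2, ← map_pow, ← pow_mul, ← pow_mul, mul_assoc]
  have hr : Odd (2 ^ (n + 1) * m + 1) := ⟨2 ^ n * m, by ring⟩
  have hox : orderOf (⟨_, hx⟩ : H) = 2 ^ (n + 3) := by
    rw [Subgroup.orderOf_mk]
    refine orderOf_eq_prime_pow (fun h' => ?_) ?_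
    · rw [pow_succ', hev, map_eq_one_iff _ twD_injective, ← orderOf_dvd_iff_pow_eq_one, hω] at h'
      exact not_two_pow_succ_dvd hr (by ring) h'
    · rw [pow_succ', hev, map_eq_one_iff _ twD_injective, ← orderOf_dvd_iff_pow_eq_one, hω]
      exact ⟨2 ^ (n + 1) * m + 1, by ring⟩
  have hrel : (⟨_, hy⟩ : H) * ⟨_, hx⟩ * (⟨_, hy⟩ : H)⁻¹ = (⟨_, hx⟩ : H) ^ (2 ^ (n + 3 - 1) - 1) := by
    obtain ⟨j, hj⟩ : ∃ j, 2 ^ (n + 1) = j + 1 := ⟨_, (Nat.sub_add_cancel Nat.one_le_two_pow).symm⟩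
    obtain ⟨u, rfl⟩ := hm
    refine Subtype.ext ((conj_slW_tw ω σ).trans ?_)
    rw [show 2 ^ (n + 3 - 1) - 1 = 2 * j + 1 from Nat.sub_eq_of_eq_add (by
      rw [show n + 3 - 1 = n + 1 + 1 from rfl, pow_succ, hj]; ring)]
    change _ = tw ω σ ^ (2 * j + 1)
    rw [pow_succ, hev, twD_apply, tw_mul, one_mul]
    congr 1
    change _ = _ * ω
    rw [inv_eq_iff_mul_eq_one, ← pow_succ, ← pow_succ', ← orderOf_dvd_iff_pow_eq_one, hω]
    obtain ⟨i, hi⟩ : ∃ i, j = 2 * i + 1 := ⟨j / 2, by rw [pow_succ] at hj; omega⟩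
    refine ⟨(2 * u + 1) * i + u + 1, ?_⟩
    rw [show 2 ^ (n + 3) = 4 * 2 ^ (n + 1) by ring, hj, hi]; ring
  have hyy : (⟨_, hy⟩ : H) * ⟨_, hy⟩ = 1 := Subtype.ext conj_slW_sq
  have hnc : (⟨_, hy⟩ : H) * ⟨_, hx⟩ ≠ ⟨_, hx⟩ * ⟨_, hy⟩ := fun h' => by
    have h5 := conj_slW_tw ω σ
    rw [show MulAut.conj slW * tw ω σ = tw ω σ * MulAut.conj slW from congrArg Subtype.val h',
      mul_inv_cancel_right] at h5
    have h6 := congrArg (fun α : MulAut SL(2, GaloisField p 2) => (α slU).1 0 1) h5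
    simp only [tw_apply, twFun01] at h6
    have h7 : ω = ω⁻¹ := Units.ext (mul_right_cancel₀ (by simp [slU]) h6)
    exact sq_ne_one_of_orderOf (by omega) hω (by rw [pow_two]; nth_rewrite 1 [h7]; exact inv_mul_cancel ω)
  obtain ⟨T, hxT, hyT, ⟨D⟩⟩ := exists_sylow_MC (n := n + 3) (e := 2 * zq (n + 3)) (d := 0) (by omega)
    (Or.inr ⟨rfl, by omega⟩) (Or.inl rfl) hox (hrel.trans (pow_sub_one_eq_pow_val (by omega) hox))
    (by rw [hyy, ZMod.val_zero, pow_zero]) hnc h4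
  have h0 : HasCoprimeAut 2 (D.sp 0) := by
    by_contra h0
    obtain ⟨r, hr | hr⟩ := (D.mem_sub ⟨zq _, rfl⟩ 1 _).1 (D.inf_le_of_not_sp_zero (Or.inl rfl) h0 ⟨hyT, h3⟩)
    · have h5 : orderOf (D.a (2 * r)) = 2 := hr ▸ orderOf_two_of_mul_self hyy fun h' => hnc (by rw [h']; simp)
      rw [D.a_involution h5] at hr
      exact hnc (hr ▸ (D.z_mul_comm hxT).symm)
    · rw [hr, D.b_mul_self, D.a_eq_one_iff] at hyy
      exact D.h2 (by linear_combination hyy - r * D.h4)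
  refine ⟨H, _, inferInstance, GaloisField p 2, inferInstance, inferInstance, p, hp.odd_of_ne_two (by omega), ?_, hL,
    T, D, by simp [h0], iff_of_false id fun b => h1 (D.pResidual_eq_top_of_sp (Or.inl rfl) h0 b)⟩
  rw [← Nat.card_eq_fintype_card, GaloisField.card p 2 two_ne_zero]

end CL.HK
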