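/-
Project HK (S5175), case `q = 2`: generators and relations for the group of order 32.
-/
import Cfsg.Agent.HK.ADefs

set_option autoImplicit false

open Cfsg Subgroup
open scoped commutatorElement MatrixGroups

namespace CL.HK

open CL.Fus CL.Loc CL.Grp CL.Inv

universe u

namespace AH0x

variable {Ω : Type u} [Group Ω] {S T : Subgroup Ω} {v w z d s : Ω}

def bo (p : Ω) (a : Bool) : Ω := bif a then p else 1

/-- `v ^ a * w ^ b * z ^ c * d ^ e` -/
def τ (v w z d : Ω) (x : Hm) : Ω := bo v x.a * bo w x.b * bo z x.c * bo d x.e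

structure Rel (v w z d : Ω) : Prop where
  v2 : v * v = 1
  w2 : w * w = 1
  z2 : z * z = 1
  d2 : d * d = 1
  wv : w * v = v * w * z
  zv : z * v = v * z
  zw : z * w = w * z
  zd : z * d = d * z
  dv : d * v = v * d
  dw : d * w = w * d
  z1 : z ≠ 1
  dn : d ∉ closure ({v, w, z} : Set Ω)

theorem bo_xor {p : Ω} (h : p * p = 1) (a b : Bool) : bo p (a ^^ b) = bo p a * bo p b := by
  cases a <;> cases b <;> simp [bo, h]

theorem bo_comm {p q : Ω} (h : p * q = q * p) (a b : Bool) : Commute (bo p a) (bo q b) := by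
  cases a <;> cases b <;> simp [bo, Commute, SemiconjBy, h]

theorem bo_mem {H : Subgroup Ω} {p : Ω} (h : p ∈ H) (a : Bool) : bo p a ∈ H := by
  cases a
  · exact one_mem H
  · exact h

theorem τ_one : τ v w z d 1 = 1 := by simp [τ, bo, show (1 : Hm) = ⟨false, false, false, false, false⟩ from rfl]
theorem τ_v : τ v w z d Hm.v = v := by simp [τ, bo, Hm.v]
theorem τ_w : τ v w z d Hm.w = w := by simp [τ, bo, Hm.w]
theorem τ_z : τ v w z d Hm.z = z := by simp [τ, bo, Hm.z]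
theorem τ_d : τ v w z d Hm.d = d := by simp [τ, bo, Hm.d]

namespace Rel

variable (h : Rel v w z d)
include h

theorem mul {x : Hm} (hx : x.f = false) (y : Hm) : τ v w z d (x * y) = τ v w z d x * τ v w z d y := by
  obtain ⟨a, b, c, e, f⟩ := x
  obtain ⟨a', b', c', e', f'⟩ := y
  obtain rfl : f = false := hx
  have h1 : bo w b * bo v a' = bo v a' * bo w b * bo z (b && a') := by
    cases b <;> cases a' <;> simp [bo, h.wv]
  simp only [τ, Hm.mul_def, Hm.mul, cond_false, Bool.false_and, Bool.xor_false, bo_xor h.v2, bo_xor h.w2,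
    bo_xor h.z2, bo_xor h.d2]
  have zv := fun a b => (bo_comm h.zv a b).left_comm
  have zw := fun a b => (bo_comm h.zw a b).left_comm
  have dv := fun a b => (bo_comm h.dv a b).left_comm
  have dw := fun a b => (bo_comm h.dw a b).left_comm
  have dz := fun a b => (bo_comm h.zd.symm a b).left_comm
  have zz := fun a b => (bo_comm (rfl : z * z = z * z) a b).left_comm
  simp only [mul_assoc, dv, dw, dz, zv, zw]
  rw [← mul_assoc (bo w b) (bo v a'), h1]
  simp only [mul_assoc, zw]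
  rw [zz (b && a') c, zz (b && a') c']

theorem ker {x : Hm} (hx : x.f = false) (h1 : τ v w z d x = 1) : x = 1 := by
  have h2 : x.e = false := by
    by_contra he
    refine h.dn ?_
    rw [τ, (Bool.not_eq_false _).mp he, mul_eq_one_iff_inv_eq] at h1
    exact (show _ = d from h1) ▸ inv_mem (mul_mem (mul_mem (bo_mem (subset_closure (by simp)) _)
      (bo_mem (subset_closure (by simp)) _)) (bo_mem (subset_closure (by simp)) _))
  have h3 : ∀ x : Hm, x.f = false → x.e = false →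
      x = 1 ∨ x = Hm.z ∨ ∃ y : Hm, y.f = false ∧ x * y = y * (x * Hm.z) := by decide +kernel
  rcases h3 x hx h2 with h4 | rfl | ⟨y, hy, h4⟩
  · exact h4
  · exact absurd (τ_z.symm.trans h1) h.z1
  · have h5 := congrArg (τ v w z d) h4
    rw [h.mul hx, h.mul hy, h.mul hx, h1, τ_z, one_mul, one_mul, left_eq_mul] at h5
    exact absurd h5 h.z1

theorem inv {x : Hm} (hx : x.f = false) : τ v w z d x⁻¹ = (τ v w z d x)⁻¹ :=
  eq_inv_of_mul_eq_one_right (by rw [← h.mul hx, mul_inv_cancel, τ_one])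

theorem inj {x y : Hm} (hx : x.f = false) (hy : y.f = false) (e : τ v w z d x = τ v w z d y) : x = y := by
  have h1 : ∀ x y : Hm, x.f = false → y.f = false → (x * y⁻¹).f = false := by decide +kernel
  exact mul_inv_eq_one.1 (h.ker (h1 x y hx hy) (by rw [h.mul hx, h.inv hy, e, mul_inv_cancel]))

theorem comm {x y : Hm} (hx : x.f = false) (hy : y.f = false) :
    τ v w z d x * τ v w z d y = τ v w z d y * τ v w z d x ↔ x * y = y * x := by
  have h1 : ∀ x y : Hm, x.f = false → y.f = false → (x * y).f = false := by decide +kernel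
  rw [← h.mul hx, ← h.mul hy]
  exact ⟨h.inj (h1 x y hx hy) (h1 y x hy hx), congrArg _⟩

theorem mem {t : Ω} : t ∈ closure ({v, w, d} : Set Ω) ↔ ∃ x : Hm, x.f = false ∧ τ v w z d x = t := by
  constructor
  · intro ht
    induction ht using closure_induction with
    | mem x hx =>
      rcases hx with rfl | rfl | rfl
      exacts [⟨Hm.v, rfl, τ_v⟩, ⟨Hm.w, rfl, τ_w⟩, ⟨Hm.d, rfl, τ_d⟩]
    | one => exact ⟨1, rfl, τ_one⟩
    | mul _ _ _ _ h1 h2 =>
      obtain ⟨x, hx, rfl⟩ := h1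
      obtain ⟨y, hy, rfl⟩ := h2
      exact ⟨x * y, by rw [Hm.mul_def, Hm.mul, hx, hy]; rfl, h.mul hx y⟩
    | inv _ _ h1 =>
      obtain ⟨x, hx, rfl⟩ := h1
      exact ⟨x⁻¹, (by decide +kernel : ∀ x : Hm, x.f = false → x⁻¹.f = false) x hx, h.inv hx⟩
  · rintro ⟨x, -, rfl⟩
    have hv : v ∈ closure ({v, w, d} : Set Ω) := subset_closure (by simp)
    have hw : w ∈ closure ({v, w, d} : Set Ω) := subset_closure (by simp)
    have hz : z ∈ closure ({v, w, d} : Set Ω) := by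
      rw [show z = (v * w)⁻¹ * (w * v) by rw [h.wv]; group]
      exact mul_mem (inv_mem (mul_mem hv hw)) (mul_mem hw hv)
    exact mul_mem (mul_mem (mul_mem (bo_mem hv _) (bo_mem hw _)) (bo_mem hz _)) (bo_mem (subset_closure (by simp)) _)

end Rel

/-- an element interchanging `v` and `w` -/
structure Sw (S T : Subgroup Ω) (v w z d s : Ω) : Prop where
  sS : s ∈ S
  sN : s ∈ normalizer (T : Set Ω)
  ss : s * s ∈ T
  sv : s * v * s⁻¹ = w
  sw : s * w * s⁻¹ = v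
  sz : s * z * s⁻¹ = z
  sd : s * d * s⁻¹ = d * z

theorem Sw.conj (h : Rel v w z d) (k : Sw S T v w z d s) {y : Hm} (hy : y.f = false) :
    s * τ v w z d y * s⁻¹ = τ v w z d (Hm.s * y * Hm.s⁻¹) := by
  have h1 : ∀ (p : Ω) (a : Bool), s * bo p a * s⁻¹ = bo (s * p * s⁻¹) a := fun p a => by cases a <;> simp [bo]
  have h2 : ∀ (x : Hm) (a : Bool), bo (τ v w z d x) a = τ v w z d (bif a then x else 1) := fun x a => by
    cases a <;> simp [bo, τ_one]
  have h3 : ∀ y : Hm, y.f = false → Hm.s * y * Hm.s⁻¹ = (bif y.a then Hm.w else 1) * ((bif y.b then Hm.v else 1) *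
      ((bif y.c then Hm.z else 1) * bif y.e then Hm.d * Hm.z else 1)) := by decide +kernel
  rw [h3 y hy, h.mul (by cases y.a <;> rfl), h.mul (by cases y.b <;> rfl), h.mul (by cases y.c <;> rfl),
    ← h2, ← h2, ← h2, ← h2, h.mul rfl, τ_v, τ_w, τ_z, τ_d, ← k.sd]
  conv_rhs => rw [← k.sv, ← h1, ← h1 d]
  conv_rhs => enter [2, 1]; rw [← k.sw, ← h1]
  conv_rhs => enter [2, 2, 1]; rw [← k.sz, ← h1]
  simp only [τ]; group

theorem Sw.ex (h : Rel v w z d) (hT : T = closure {v, w, d}) (hle : T ≤ S) (k : Sw S T v w z d s) :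
    ∃ s', Sw S T v w z d s' ∧ s' * s' = 1 := by
  obtain ⟨q, hq, e⟩ := h.mem.1 (hT ▸ k.ss)
  have h1 : ∀ q : Hm, q.f = false → q * Hm.v = Hm.v * q → q * Hm.w = Hm.w * q → (Hm.s * q * Hm.s⁻¹).f = false ∧
      (Hm.s * q * Hm.s⁻¹ = q → q = 1 ∨ q = Hm.z) := by decide +kernel
  obtain ⟨h2, h3⟩ := h1 q hq
    ((h.comm hq rfl).1 (by
      rw [e, τ_v, ← mul_inv_eq_iff_eq_mul]
      exact (by group : _ = s * (s * v * s⁻¹) * s⁻¹).trans (by rw [k.sv, k.sw])))
    ((h.comm hq rfl).1 (by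
      rw [e, τ_w, ← mul_inv_eq_iff_eq_mul]
      exact (by group : _ = s * (s * w * s⁻¹) * s⁻¹).trans (by rw [k.sw, k.sv])))
  rcases h3 (h.inj h2 hq (by rw [← k.conj h hq, e]; group)) with rfl | rfl
  · exact ⟨s, k, e.symm.trans τ_one⟩
  have hd : d ∈ T := hT ▸ subset_closure (by simp)
  have h4 : s * d * (s * d) = 1 := by
    rw [show s * d * (s * d) = s * d * s⁻¹ * (s * s) * d by group, k.sd, ← e, τ_z, mul_assoc d, h.z2, mul_one, h.d2]
  have h5 : ∀ p, d * p = p * d → s * d * p * (s * d)⁻¹ = s * p * s⁻¹ := fun p hp => by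
    rw [mul_assoc s, hp]; group
  exact ⟨s * d, ⟨mul_mem k.sS (hle hd), mul_mem k.sN (le_normalizer hd), h4 ▸ one_mem T, by rw [h5 v h.dv, k.sv],
    by rw [h5 w h.dw, k.sw], by rw [h5 z h.zd.symm, k.sz], by rw [h5 d rfl, k.sd]⟩, h4⟩

theorem grow {N : Subgroup Ω} [Finite S] (hS : IsPGroup 2 S) (hN : ¬ S ≤ N) :
    ∃ g ∈ S, g ∉ N ∧ ∀ n ∈ S, n ∈ N → g * n * g⁻¹ ∈ N := by
  haveI : Fact (Nat.Prime 2) := ⟨Nat.prime_two⟩
  have := hS.isNilpotent
  obtain ⟨g, hg, hgN⟩ := SetLike.exists_of_lt (Group.normalizerCondition_of_isNilpotent (G := S) (N.subgroupOf S)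
    (lt_top_iff_ne_top.2 fun e => hN (subgroupOf_eq_top.1 e)))
  exact ⟨g, g.2, hgN, fun n hn hn' => (mem_normalizer_iff.1 hg ⟨n, hn⟩).1 hn'⟩

theorem conj_comm (g a b : Ω) : g * a * g⁻¹ * (g * b * g⁻¹) = g * b * g⁻¹ * (g * a * g⁻¹) ↔ a * b = b * a := by
  rw [show g * a * g⁻¹ * (g * b * g⁻¹) = g * (a * b) * g⁻¹ by group,
    show g * b * g⁻¹ * (g * a * g⁻¹) = g * (b * a) * g⁻¹ by group, mul_left_inj, mul_right_inj]

/-- the normaliser of `T` in `S` -/
theorem norm_cases (h : Rel v w z d) (hT : T = closure {v, w, d}) (k : Sw S T v w z d s)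
    (hV : ∀ n ∈ S, (∀ t, (t ∈ T ∧ t * v = v * t) ↔ (n * t * n⁻¹ ∈ T ∧ n * t * n⁻¹ * v = v * (n * t * n⁻¹))) → n ∈ T)
    {n : Ω} (hn : n ∈ S) (hN : n ∈ normalizer (T : Set Ω)) : n ∈ T ∨ s⁻¹ * n ∈ T := by
  have hv : v ∈ T := hT ▸ subset_closure (by simp)
  have hw : w ∈ T := hT ▸ subset_closure (by simp)
  have key : ∀ m ∈ S, m ∈ normalizer (T : Set Ω) →
      (∀ t ∈ T, t * (m * v * m⁻¹) = m * v * m⁻¹ * t ↔ t * v = v * t) → m ∈ T := fun m hm hmN h1 =>
    hV m hm fun t => by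
      rw [← mem_normalizer_iff.1 hmN t]
      exact and_congr_right fun ht => by rw [← h1 _ ((mem_normalizer_iff.1 hmN t).1 ht), conj_comm]
  obtain ⟨x, hx, e⟩ := h.mem.1 (hT ▸ (mem_normalizer_iff.1 hN v).1 hv)
  obtain ⟨y, hy, e'⟩ := h.mem.1 (hT ▸ (mem_normalizer_iff.1 hN w).1 hw)
  have h1 : ∀ x : Hm, x.f = false → (x * x).f = false ∧ (x * x = 1 → (∀ y : Hm, y.f = false → x * y = y * x) ∨
      (∀ y : Hm, y.f = false → (y * x = x * y ↔ y * Hm.v = Hm.v * y)) ∨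
      ∀ y : Hm, y.f = false → (y * x = x * y ↔ y * Hm.w = Hm.w * y)) := by decide +kernel
  rcases (h1 x hx).2 (h.ker (h1 x hx).1 (by
    rw [h.mul hx, e, show n * v * n⁻¹ * (n * v * n⁻¹) = n * (v * v) * n⁻¹ by group, h.v2]; group)) with h2 | h2 | h2
  · have h3 := (h.comm hx hy).2 (h2 y hy)
    rw [e, e', conj_comm, h.wv, left_eq_mul] at h3
    exact absurd h3 h.z1
  · refine Or.inl (key n hn hN fun t ht => ?_)
    obtain ⟨t, ht', rfl⟩ := h.mem.1 (hT ▸ ht)
    rw [← e, h.comm ht' hx, h2 t ht', ← h.comm ht' rfl, τ_v]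
  · refine Or.inr (key _ (mul_mem (inv_mem k.sS) hn) (mul_mem (inv_mem k.sN) hN) fun t ht => ?_)
    obtain ⟨t', ht', e''⟩ := h.mem.1 (hT ▸ (mem_normalizer_iff.1 k.sN t).1 ht)
    rw [← conj_comm s, show s * (s⁻¹ * n * v * (s⁻¹ * n)⁻¹) * s⁻¹ = n * v * n⁻¹ by group, ← conj_comm s t v, k.sv,
      ← e, ← e'', h.comm ht' hx, h2 t' ht', ← h.comm ht' rfl, τ_w]

/-- involutions of `T` centralised by an element of `s T` -/
theorem fixed (h : Rel v w z d) (hT : T = closure {v, w, d}) (k : Sw S T v w z d s) {x u : Ω} (hx : s⁻¹ * x ∈ T)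
    (hu : u ∈ T) (h2 : u * u = 1) (hc : x * u = u * x) : u = 1 ∨ u = z := by
  obtain ⟨t, ht, e⟩ := h.mem.1 (hT ▸ (mem_normalizer_iff.1 k.sN _).1 hx)
  obtain ⟨y, hy, rfl⟩ := h.mem.1 (hT ▸ hu)
  have h1 : ∀ t y : Hm, t.f = false → y.f = false → (y * y).f = false ∧ (t * (Hm.s * y * Hm.s⁻¹)).f = false ∧
      (y * t).f = false ∧ (y * y = 1 → t * (Hm.s * y * Hm.s⁻¹) = y * t → y = 1 ∨ y = Hm.z) := by decide +kernel
  obtain ⟨h3, h4, h5, h6⟩ := h1 t y ht hy
  rcases h6 (h.ker h3 (by rw [h.mul hy, h2])) (h.inj h4 h5 (by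
    rw [h.mul ht, h.mul hy, ← k.conj h hy, e]
    exact (by group : _ = x * τ v w z d y * s⁻¹).trans (by rw [hc]; group))) with rfl | rfl
  exacts [Or.inl τ_one, Or.inr τ_z]

theorem conj_mem_T (h : Rel v w z d) (hT : T = closure {v, w, d}) (k : Sw S T v w z d s) {g : Ω}
    (hg : ∀ t ∈ T, g * t * g⁻¹ ∈ T ∨ s⁻¹ * (g * t * g⁻¹) ∈ T) : g * v * g⁻¹ ∈ T ∧ g * d * g⁻¹ ∈ T := by
  have key : ∀ x : Hm, x ∈ Hm.A0 → g * τ v w z d x * g⁻¹ ∈ T := by
    intro x hx
    by_contra hn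
    have hf : ∀ y : Hm, y ∈ Hm.A0 → y.f = false ∧ y * y = 1 ∧ ∀ x ∈ Hm.A0, x * y = y * x := by
      simp only [Hm.mem_A0]; decide +kernel
    have hm : ∀ y : Hm, y ∈ Hm.A0 → τ v w z d y ∈ T := fun y hy => hT ▸ h.mem.2 ⟨y, (hf y hy).1, rfl⟩
    have h1 : ∀ y ∈ Hm.A0, g * τ v w z d y * g⁻¹ ∈ T → y ≠ 1 → g * τ v w z d y * g⁻¹ = z := fun y hy hy' h1 =>
      (fixed h hT k ((hg _ (hm x hx)).resolve_left hn) hy'
        (by rw [show ∀ a : Ω, g * a * g⁻¹ * (g * a * g⁻¹) = g * (a * a) * g⁻¹ from fun a => by group,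
          ← h.mul (hf y hy).1, (hf y hy).2.1, τ_one]; group)
        ((conj_comm g _ _).2 ((h.comm (hf x hx).1 (hf y hy).1).2 ((hf y hy).2.2 x hx)))).resolve_left fun e =>
          h1 (h.ker (hf y hy).1 (by simpa using e))
    have h2 : ∀ y ∈ Hm.A0, ∀ y' ∈ Hm.A0, g * τ v w z d y * g⁻¹ ∈ T → g * τ v w z d y' * g⁻¹ ∈ T → y ≠ 1 → y' ≠ 1 →
        y = y' := fun y hy y' hy' a b c e =>
      h.inj (hf y hy).1 (hf y' hy').1 (by simpa using (h1 y hy a c).trans (h1 y' hy' b e).symm)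
    have h3 : ∀ y ∈ Hm.A0, g * τ v w z d y * g⁻¹ ∈ T ∨ g * τ v w z d (x * y) * g⁻¹ ∈ T := fun y hy => by
      refine (hg _ (hm y hy)).imp_right fun h4 => ?_
      have h5 := mul_mem ((mem_normalizer_iff.1 k.sN _).1 ((hg _ (hm x hx)).resolve_left hn)) (mul_mem k.ss h4)
      rw [h.mul (hf x hx).1]
      convert h5 using 1
      group
    have h4 : ∀ x ∈ Hm.A0, ∃ y ∈ Hm.A0, ∃ y' ∈ Hm.A0, y ≠ 1 ∧ y' ≠ 1 ∧ x * y ≠ 1 ∧ x * y' ≠ 1 ∧ y ≠ y' ∧
        x * y ≠ y' ∧ y ≠ x * y' := by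
      simp only [Hm.mem_A0]; decide +kernel
    obtain ⟨y, hy, y', hy', n1, n2, n3, n4, n5, n6, n7⟩ := h4 x hx
    rcases h3 y hy with a | a <;> rcases h3 y' hy' with b | b
    · exact n5 (h2 _ hy _ hy' a b n1 n2)
    · exact n7 (h2 _ hy _ (mul_mem hx hy') a b n1 n4)
    · exact n6 (h2 _ (mul_mem hx hy) _ hy' a b n3 n2)
    · exact n5 (mul_left_cancel (h2 _ (mul_mem hx hy) _ (mul_mem hx hy') a b n3 n4))
  exact ⟨τ_v (v := v) (w := w) (z := z) (d := d) ▸ key Hm.v rfl, τ_d (v := v) (w := w) (z := z) (d := d) ▸ key Hm.d rfl⟩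

end AH0x

open AH0x in
theorem ah0 : AH0.{u} := by
  intro Ω _ S _ F T D v w z s hS h hD
  have hDT : D ≤ T := h.gen ▸ le_sup_right
  haveI : Finite T := Finite.of_injective _ (inclusion_injective h.le)
  haveI : Finite D := Finite.of_injective _ (inclusion_injective hDT)
  obtain ⟨⟨d, hd⟩, hd1⟩ := ne_bot_iff_exists_ne_one.1 hD
  replace hd1 : d ≠ 1 := fun e => hd1 (Subtype.ext e)
  haveI : Finite (zpowers d) := Finite.of_injective _ (inclusion_injective (zpowers_le.2 hd))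
  have hc : 1 < Nat.card (zpowers d) := one_lt_card_iff_ne_bot _ |>.2 (zpowers_ne_bot.2 hd1)
  have hDd : D = zpowers d := (eq_of_le_of_card_ge (zpowers_le.2 hd) (h.cardD.trans hc)).symm
  have hd2 : d * d = 1 := by
    have := h.cardD
    rw [hDd] at this
    rw [← sq, ← show Nat.card (zpowers d) = 2 by omega, Nat.card_zpowers, pow_orderOf_eq_one]
  have hv' : v ∈ closure ({v, w} : Set Ω) := subset_closure (by simp)
  have hw' : w ∈ closure ({v, w} : Set Ω) := subset_closure (by simp)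
  have hz' : z ∈ closure ({v, w} : Set Ω) :=
    h.com ▸ mul_mem (mul_mem (mul_mem hv' hw') (inv_mem hv')) (inv_mem hw')
  have hv : v ∈ T := h.gen ▸ mem_sup_left hv'
  have hw : w ∈ T := h.gen ▸ mem_sup_left hw'
  have hz : z ∈ T := h.gen ▸ mem_sup_left hz'
  have iv := inv_eq_of_mul_eq_one_right h.v2
  have iw := inv_eq_of_mul_eq_one_right h.w2
  have ez : z = v * w * v * w := by rw [← h.com, commutatorElement_def, iv, iw]
  have hz2 : z * z = 1 := by
    have h1 : v * z * v = z := by rw [← h.zc v hv, mul_assoc, h.v2, mul_one]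
    calc z * z = z * (v * z * v) := by rw [h1]
      _ = v * w * v * w * (v * v) * w * v * w * v := by rw [ez]; group
      _ = v * w * v * (w * w) * v * w * v := by rw [h.v2]; group
      _ = v * w * (v * v) * w * v := by rw [h.w2]; group
      _ = v * (w * w) * v := by rw [h.v2]; group
      _ = 1 := by rw [h.w2, mul_one, h.v2]
  have hwv : w * v = v * w * z := by
    rw [← inv_eq_of_mul_eq_one_right hz2, ez, eq_mul_inv_iff_mul_eq]
    calc w * v * (v * w * v * w) = w * (v * v) * w * v * w := by group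
      _ = w * w * v * w := by rw [h.v2]; group
      _ = v * w := by rw [h.w2]; group
  have hR : Rel v w z d := ⟨h.v2, h.w2, hz2, hd2, hwv, h.zc v hv, h.zc w hw, h.zc d (hDT hd), h.Dc d hd v hv,
    h.Dc d hd w hw, h.z1, fun e => hd1 (mem_bot.1 (h.disj ▸ ⟨hd, (closure_le _).2 (by
      rintro _ (rfl | rfl | rfl); exacts [hv', hw', hz']) e⟩))⟩
  have hT : T = closure {v, w, d} := by
    rw [h.gen, hDd, zpowers_eq_closure, ← Subgroup.closure_union]
    congr 1; ext x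
    simp only [Set.mem_union, Set.mem_insert_iff, Set.mem_singleton_iff, or_assoc]
  obtain ⟨s₁, k⟩ : ∃ s₁, Sw S T v w z d s₁ := by
    obtain ⟨q, hq, e⟩ := hR.mem.1 (hT ▸ h.ss)
    have h1 : s * w * s⁻¹ = τ v w z d (q * (Hm.v * q⁻¹)) := by
      rw [hR.mul hq, hR.mul rfl, hR.inv hq, e, τ_v, ← h.sv]; group
    have h2 : ∀ q : Hm, q.f = false → q * (Hm.v * q⁻¹) = Hm.v ∨ q * (Hm.v * q⁻¹) = Hm.v * Hm.z := by decide +kernel
    have h3 : s * z * s⁻¹ = w * (s * w * s⁻¹) * w * (s * w * s⁻¹) := by rw [ez, ← h.sv]; group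
    have h4 : w * v * w * v = z := by
      rw [hwv, mul_assoc (v * w), h.zc w hw, mul_assoc, mul_assoc w, h.zc v hv]
      calc v * w * (w * (v * z)) = v * (w * w) * v * z := by group
        _ = z := by rw [h.w2, mul_one, h.v2, one_mul]
    rcases h2 q hq with h5 | h5 <;> rw [h5] at h1
    · rw [τ_v] at h1
      exact ⟨s, h.sS, h.sN, h.ss, h.sv, h1, by rw [h3, h1, h4], h.sD d hd hd1⟩
    rw [hR.mul rfl, τ_v, τ_z] at h1
    have h6 : s * z * s⁻¹ = z := by
      rw [h3, h1]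
      calc w * (v * z) * w * (v * z) = w * v * (z * w) * v * z := by group
        _ = w * v * w * (z * v) * z := by rw [h.zc w hw]; group
        _ = w * v * w * v * (z * z) := by rw [h.zc v hv]; group
        _ = z := by rw [hz2, mul_one, h4]
    have h7 : ∀ p, v * p = p * v → s * v * p * (s * v)⁻¹ = s * p * s⁻¹ := fun p hp => by
      rw [mul_assoc s, hp]; group
    refine ⟨s * v, mul_mem h.sS (h.le hv), mul_mem h.sN (le_normalizer hv), ?_, by rw [h7 v rfl, h.sv], ?_,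
      by rw [h7 z (h.zc v hv).symm, h6], by rw [h7 d (h.Dc d hd v hv).symm, h.sD d hd hd1]⟩
    · rw [show s * v * (s * v) = s * v * s⁻¹ * (s * s) * v by group, h.sv]
      exact mul_mem (mul_mem hw h.ss) hv
    · have h8 : v * w * v⁻¹ = w * z := by
        rw [iv, mul_assoc, hwv]
        calc v * (v * w * z) = v * v * w * z := by group
          _ = w * z := by rw [h.v2, one_mul]
      rw [show s * v * w * (s * v)⁻¹ = s * (v * w * v⁻¹) * s⁻¹ by group, h8,
        show s * (w * z) * s⁻¹ = s * w * s⁻¹ * (s * z * s⁻¹) by group, h1, h6, mul_assoc, hz2, mul_one]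
  obtain ⟨s', k', hs2⟩ := k.ex hR hT h.le
  have hV : ∀ t, t ∈ closure {v, z} ⊔ D ↔ t ∈ T ∧ t * v = v * t := fun t => by
    constructor
    · intro ht
      suffices hle : closure {v, z} ⊔ D ≤ T ⊓ centralizer {v} from
        ⟨(hle ht).1, mem_centralizer_singleton_iff.1 (hle ht).2⟩
      refine sup_le ((closure_le _).2 ?_) fun x hx => ⟨hDT hx, mem_centralizer_singleton_iff.2 (h.Dc x hx v hv)⟩
      rintro x (e | e) <;> rw [e]
      exacts [⟨hv, mem_centralizer_singleton_iff.2 rfl⟩, ⟨hz, mem_centralizer_singleton_iff.2 (h.zc v hv)⟩]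
    · rintro ⟨ht, hc⟩
      obtain ⟨x, hx, rfl⟩ := hR.mem.1 (hT ▸ ht)
      have h1 := (by decide +kernel : ∀ x : Hm, x.f = false → x * Hm.v = Hm.v * x → x.b = false) x hx
        ((hR.comm hx rfl).1 (by rwa [τ_v]))
      rw [τ, h1]
      exact mul_mem (mul_mem (mul_mem (bo_mem (mem_sup_left (subset_closure (by simp))) _) (one_mem _))
        (bo_mem (mem_sup_left (subset_closure (by simp))) _)) (bo_mem (mem_sup_right hd) _)
  have hN : ∀ n ∈ S, n ∈ normalizer (T : Set Ω) → n ∈ T ∨ s'⁻¹ * n ∈ T := fun n hn hn' =>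
    norm_cases hR hT k' (fun m hm h1 => h.nV ▸ ⟨hm, mem_normalizer_iff.2 fun t => by rw [hV, hV, h1]⟩) hn hn'
  have hSN : S ≤ normalizer (T : Set Ω) := by
    by_contra hn
    obtain ⟨g, hg, hgN, hc⟩ := grow hS hn
    have h1 : ∀ g ∈ S, (∀ n ∈ S, n ∈ normalizer (T : Set Ω) → g * n * g⁻¹ ∈ normalizer (T : Set Ω)) →
        g * v * g⁻¹ ∈ T ∧ g * d * g⁻¹ ∈ T := fun g hg hc => conj_mem_T hR hT k' fun t ht =>
      hN _ (mul_mem (mul_mem hg (h.le ht)) (inv_mem hg)) (hc t (h.le ht) (le_normalizer ht))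
    have h2 := (h1 (g * s') (mul_mem hg k'.sS) fun n hn hn' => by
      rw [show g * s' * n * (g * s')⁻¹ = g * (s' * n * s'⁻¹) * g⁻¹ by group]
      exact hc _ (mul_mem (mul_mem k'.sS hn) (inv_mem k'.sS)) (mul_mem (mul_mem k'.sN hn') (inv_mem k'.sN))).1
    rw [show g * s' * v * (g * s')⁻¹ = g * (s' * v * s'⁻¹) * g⁻¹ by group, k'.sv] at h2
    refine hgN (mem_normalizer_fintype fun t ht => ?_)
    have h3 : closure {v, w, d} ≤ T.comap (MulAut.conj g).toMonoidHom := (closure_le _).2 (by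
      rintro x (e | e | e) <;> rw [e]
      exacts [(h1 g hg hc).1, h2, (h1 g hg hc).2])
    exact h3 (hT ▸ ht)
  refine ⟨w, d, s', hDd, ⟨hR.v2, hR.w2, hR.z2, hR.d2, hs2, hR.wv, hR.zv, hR.zw, hR.zd,
    (mul_inv_eq_iff_eq_mul.1 k'.sz).symm, hR.dv, hR.dw, mul_inv_eq_iff_eq_mul.1 k'.sv,
    mul_inv_eq_iff_eq_mul.1 k'.sd, hR.z1⟩, hT, le_antisymm (fun x hx => ?_) ((closure_le _).2 ?_)⟩
  · have hs' : s' ∈ closure ({v, d, s'} : Set Ω) := subset_closure (by simp)
    have hv'' : v ∈ closure ({v, d, s'} : Set Ω) := subset_closure (by simp)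
    have h1 : T ≤ closure {v, d, s'} := hT.le.trans ((closure_le _).2 (by
      rintro y (e | e | e) <;> rw [e]
      exacts [hv'', k'.sv ▸ mul_mem (mul_mem hs' hv'') (inv_mem hs'), subset_closure (by simp)]))
    rcases hN x hx (hSN hx) with h2 | h2
    · exact h1 h2
    · exact mul_inv_cancel_left s' x ▸ mul_mem hs' (h1 h2)
  · rintro y (e | e | e) <;> rw [e]
    exacts [h.le hv, h.le (hDT hd), k'.sS]

end CL.HK
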