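/-
Project HK (S5175), case A: the homomorphism from the model of order 32.
-/
import Cfsg.Agent.HK.ADefs

set_option autoImplicit false

open Cfsg Subgroup
open scoped commutatorElement

namespace CL.HK

open CL.Fus CL.Loc CL.Grp CL.Inv

universe u

namespace AH1

/-- the normal form -/
def nf {Ω : Type*} [Group Ω] (v w z d s : Ω) (x : Hm) : Ω :=
  cond x.a v 1 * cond x.b w 1 * cond x.c z 1 * cond x.e d 1 * cond x.f s 1

theorem nf_id : ∀ x : Hm, nf Hm.v Hm.w Hm.z Hm.d Hm.s x = x := by decide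

theorem ker_z : ∀ x : Hm, x ≠ 1 → x = Hm.z ∨ (∃ g, g * x * g⁻¹ * x⁻¹ = Hm.z) ∨ x * x = Hm.z ∨
    x * x * (x * x) = Hm.z := by decide +kernel

variable {Ω : Type u} [Group Ω] {v w z d s : Ω}

theorem step (h : R32 v w z d s) (x : Hm) : nf v w z d s (x * Hm.v) = nf v w z d s x * v ∧
    nf v w z d s (x * Hm.w) = nf v w z d s x * w ∧ nf v w z d s (x * Hm.z) = nf v w z d s x * z ∧
    nf v w z d s (x * Hm.d) = nf v w z d s x * d ∧ nf v w z d s (x * Hm.s) = nf v w z d s x * s := by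
  have sw : s * w = v * s := by
    calc s * w = s * (w * s) * s := by rw [mul_assoc, mul_assoc, h.s2, mul_one]
      _ = v * s := by rw [← h.sv, ← mul_assoc, h.s2, one_mul]
  have sd : s * d = z * (d * s) := by rw [h.sd, ← h.zd, mul_assoc]
  have wv : w * v = v * (w * z) := by rw [h.wv, mul_assoc]
  have k : ∀ {a b c : Ω}, a * b = c → ∀ t, a * (b * t) = c * t := fun e t => by rw [← mul_assoc, e]
  obtain ⟨a, b, c, e, f⟩ := x
  cases a <;> cases b <;> cases c <;> cases e <;> cases f <;>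
    simp only [nf, Hm.mul_def, Hm.mul, Hm.v, Hm.w, Hm.z, Hm.d, Hm.s, cond_true, cond_false, Bool.xor_false,
      Bool.xor_true, Bool.not_true, Bool.not_false, Bool.and_true, Bool.and_false,
      one_mul, mul_one, mul_assoc, h.v2, h.w2, h.z2, h.d2, h.s2, wv, h.zv, h.zw, ← h.zd, ← h.zs, h.dv, h.dw, h.sv, sw, sd,
      k h.v2, k h.w2, k h.z2, k h.d2, k wv, k h.zv, k h.zw, k h.zd.symm, k h.dv, k h.dw, and_self]

theorem nf_mul (h : R32 v w z d s) (x y : Hm) : nf v w z d s (x * y) = nf v w z d s x * nf v w z d s y := by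
  have k : ∀ {g : Hm} {g' : Ω}, (∀ x, nf v w z d s (x * g) = nf v w z d s x * g') → ∀ (b : Bool) x,
      nf v w z d s (x * cond b g 1) = nf v w z d s x * cond b g' 1 := fun e b x => by
    cases b
    · simp
    · exact e x
  conv_lhs => rw [← nf_id y, nf.eq_1 Hm.v]
  simp only [← mul_assoc]
  rw [k fun x => (step h x).2.2.2.2, k fun x => (step h x).2.2.2.1, k fun x => (step h x).2.2.1,
    k fun x => (step h x).2.1, k fun x => (step h x).1, nf.eq_1 _ _ _ _ _ y]
  simp only [mul_assoc]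

theorem cond_mem {K : Subgroup Ω} {g : Ω} {b : Bool} (h : b = true → g ∈ K) : cond b g 1 ∈ K := by
  cases b
  exacts [one_mem _, h rfl]

theorem nf_mem {K : Subgroup Ω} {x : Hm} (h1 : x.a = true → v ∈ K) (h2 : x.b = true → w ∈ K) (h3 : z ∈ K) (h4 : d ∈ K)
    (h5 : x.f = true → s ∈ K) : nf v w z d s x ∈ K :=
  mul_mem (mul_mem (mul_mem (mul_mem (cond_mem h1) (cond_mem h2)) (cond_mem fun _ => h3)) (cond_mem fun _ => h4))
    (cond_mem h5)

end AH1

open AH1

theorem ah1 : AH1.{u} := by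
  intro Ω _ v w z d s h
  let φ : Hm →* Ω := MonoidHom.mk' (nf v w z d s) (nf_mul h)
  have e1 : φ Hm.v = v := by simp [φ, nf, Hm.v]
  have e2 : φ Hm.w = w := by simp [φ, nf, Hm.w]
  have e3 : φ Hm.z = z := by simp [φ, nf, Hm.z]
  have e4 : φ Hm.d = d := by simp [φ, nf, Hm.d]
  have e5 : φ Hm.s = s := by simp [φ, nf, Hm.s]
  have hz : ∀ {K : Subgroup Ω}, v ∈ K → w ∈ K → z ∈ K := fun h1 h2 =>
    (mul_mem_cancel_left (mul_mem h1 h2)).1 (h.wv ▸ mul_mem h2 h1)
  refine ⟨φ, (injective_iff_map_eq_one φ).2 fun x hx => by_contra fun x1 => h.z1 ?_, e1, e2, e3, e4, e5,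
    le_antisymm ?_ ?_, le_antisymm ?_ ?_, le_antisymm ?_ ?_⟩
  · rcases ker_z x x1 with r | ⟨g, r⟩ | r | r <;> rw [← e3, ← r] <;> simp [hx]
  · rintro _ ⟨x, rfl⟩
    have m1 : v ∈ closure {v, d, s} := subset_closure (by simp)
    have m3 : s ∈ closure {v, d, s} := subset_closure (by simp)
    have m2 : w ∈ closure {v, d, s} := (mul_mem_cancel_right m3).1 (h.sv ▸ mul_mem m3 m1)
    exact nf_mem (fun _ => m1) (fun _ => m2) (hz m1 m2) (subset_closure (by simp)) fun _ => m3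
  · rw [closure_le]
    rintro _ (rfl | rfl | rfl)
    exacts [⟨_, e1⟩, ⟨_, e4⟩, ⟨_, e5⟩]
  · rintro _ ⟨x, hx, rfl⟩
    have m1 : v ∈ closure {v, w, d} := subset_closure (by simp)
    have m2 : w ∈ closure {v, w, d} := subset_closure (by simp)
    exact nf_mem (fun _ => m1) (fun _ => m2) (hz m1 m2) (subset_closure (by simp)) fun q => by
      simp [Hm.mem_T0, q] at hx
  · rw [closure_le]
    rintro _ (rfl | rfl | rfl)
    exacts [⟨_, Hm.mem_T0.2 rfl, e1⟩, ⟨_, Hm.mem_T0.2 rfl, e2⟩, ⟨_, Hm.mem_T0.2 rfl, e4⟩]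
  · rintro _ ⟨x, hx, rfl⟩
    have := Hm.mem_A0.1 hx
    exact nf_mem (fun _ => mem_sup_left (subset_closure (by simp))) (fun q => by simp [q] at this)
      (mem_sup_left (subset_closure (by simp))) (mem_sup_right (mem_zpowers d)) fun q => by simp [q] at this
  · refine sup_le ?_ (zpowers_le.2 ⟨_, Hm.mem_A0.2 rfl, e4⟩)
    rw [closure_le]
    rintro _ (rfl | rfl)
    exacts [⟨_, Hm.mem_A0.2 rfl, e1⟩, ⟨_, Hm.mem_A0.2 rfl, e3⟩]

end CL.HK
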