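/-
Project HK (S5175), case A: the essential subgroups of the group of order 32.
-/
import Cfsg.Agent.HK.ADefs

set_option autoImplicit false

open Cfsg Subgroup

namespace CL.HK

open CL.Fus CL.Loc CL.Grp CL.Inv

universe u

theorem ah2 (h1 : AH2c) (h2 : AH2p) : AH2.{u} := by
  intro Ω _ S _ F φ A _ h hA
  have hS : ∀ x, φ x ∈ S := fun x => h.rng ▸ ⟨x, rfl⟩
  have hB : (A.comap φ).map φ = A := map_comap_eq_self (h.rng ▸ IsEssential.le hA)
  have hC : centralizer (A.comap φ : Set Hm) ≤ A.comap φ := fun x hx =>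
    centralizerIn_le_of_centric hA.1 ⟨hS x, fun y hy => by
      obtain ⟨b, hb, rfl⟩ := hB.ge hy
      rw [← map_mul, hx b hb, map_mul]⟩
  rcases h1 _ hC with ⟨t, ht, e⟩ | e | e | e
  · refine absurd (IsPGroup.to_subgroup ?_ _) (IsEssential.not_isPGroup hA)
    rw [← hB, e]
    exact (h2 t ht).of_equiv (MulAut.congr (equivMapOfInjective _ φ h.inj))
  · exact Or.inl (e ▸ hB.symm)
  · exact Or.inr (Or.inl (e ▸ hB.symm))
  · exact Or.inr (Or.inr (e ▸ hB.symm))

end CL.HK
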