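/-
Project HK (S5175), case A: the self-centralizing subgroups of the group of order 32.
-/
import Cfsg.Agent.HK.ADefs

set_option autoImplicit false

open Cfsg Subgroup

namespace CL.HK

namespace AH2cx

open Hm

def al : List Hm :=
  [⟨false, false, false, false, false⟩, ⟨false, false, true, false, false⟩, ⟨false, false, false, true, false⟩,
   ⟨false, false, true, true, false⟩, ⟨false, true, false, false, false⟩, ⟨false, true, true, false, false⟩,
   ⟨false, true, false, true, false⟩, ⟨false, true, true, true, false⟩, ⟨true, false, false, false, false⟩,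
   ⟨true, false, true, false, false⟩, ⟨true, false, false, true, false⟩, ⟨true, false, true, true, false⟩,
   ⟨true, true, false, false, false⟩, ⟨true, true, true, false, false⟩, ⟨true, true, false, true, false⟩,
   ⟨true, true, true, true, false⟩, ⟨false, false, false, false, true⟩, ⟨false, false, true, false, true⟩,
   ⟨false, false, false, true, true⟩, ⟨false, false, true, true, true⟩, ⟨false, true, false, false, true⟩,
   ⟨false, true, true, false, true⟩, ⟨false, true, false, true, true⟩, ⟨false, true, true, true, true⟩,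
   ⟨true, false, false, false, true⟩, ⟨true, false, true, false, true⟩, ⟨true, false, false, true, true⟩,
   ⟨true, false, true, true, true⟩, ⟨true, true, false, false, true⟩, ⟨true, true, true, false, true⟩,
   ⟨true, true, false, true, true⟩, ⟨true, true, true, true, true⟩]

theorem mem_al : ∀ x, x ∈ al := by decide

def enc (x : Hm) : ℕ :=
  (bif x.a then 1 else 0) + (bif x.b then 2 else 0) + (bif x.c then 4 else 0) + (bif x.e then 8 else 0) +
    (bif x.f then 16 else 0)

theorem enc_inj : ∀ x y, enc x = enc y → x = y := by decide +kernel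

/-- subsets are coded as numbers -/
def mem (m : ℕ) (x : Hm) : Bool := m.testBit (enc x)

def frc {α : Type} (n : ℕ) (f : ℕ → α) : α :=
  match n with
  | 0 => f 0
  | k + 1 => f (k + 1)

theorem frc_eq {α : Type} (n : ℕ) (f : ℕ → α) : frc n f = f n := by cases n <;> rfl

theorem mem_or {m n : ℕ} {x : Hm} : mem (m ||| n) x = true ↔ mem m x = true ∨ mem n x = true := by
  simp [mem]

def imgL (g : Hm) (m : ℕ) : List Hm → ℕ
  | [] => 0
  | y :: l => bif mem m y then imgL g m l ||| 2 ^ enc (mul g y) else imgL g m l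

theorem imgL_spec {g x : Hm} {m : ℕ} : ∀ l, mem (imgL g m l) x = true → ∃ y, mem m y = true ∧ x = g * y
  | [], h => by simp [imgL, mem] at h
  | y :: l, h => by
    cases k : mem m y
    · rw [imgL, k] at h
      exact imgL_spec l h
    · rw [imgL, k] at h
      rcases mem_or.1 h with h | h
      · exact imgL_spec l h
      · exact ⟨y, k, (enc_inj (mul g y) _ (by simpa [mem, Nat.testBit_two_pow] using h)).symm⟩

def step : List Hm → ℕ → ℕ
  | [], m => m
  | g :: G, m => frc (m ||| imgL g m al) (step G)

def clN (G : List Hm) : ℕ → ℕ → ℕ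
  | 0, m => m
  | n + 1, m => frc (step G m) fun m' => bif m'.beq m then m else clN G n m'

def cl (G : List Hm) (m : ℕ) : ℕ := clN G 9 m

/-- the coded set lies in `A` -/
def Sb (A : Subgroup Hm) (m : ℕ) : Prop := ∀ x, mem m x = true → x ∈ A

theorem step_spec {A : Subgroup Hm} : ∀ (G : List Hm) (m : ℕ), (∀ g ∈ G, g ∈ A) → Sb A m → Sb A (step G m)
  | [], _, _, h => h
  | g :: G, m, hG, h => by
    rw [step, frc_eq]
    refine step_spec G _ (fun x hx => hG x (List.mem_cons_of_mem _ hx)) fun x hx => (mem_or.1 hx).elim (h x) fun k => ?_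
    obtain ⟨y, hy, rfl⟩ := imgL_spec _ k
    exact mul_mem (hG g List.mem_cons_self) (h y hy)

theorem clN_spec {A : Subgroup Hm} {G : List Hm} (hG : ∀ g ∈ G, g ∈ A) : ∀ (n m : ℕ), Sb A m → Sb A (clN G n m)
  | 0, _, h => h
  | n + 1, m, h => by
    rw [clN, frc_eq]
    cases (step G m).beq m
    exacts [clN_spec hG n _ (step_spec _ _ hG h), h]

theorem cl_spec {A : Subgroup Hm} {G : List Hm} {m : ℕ} (hG : ∀ g ∈ G, g ∈ A) (h : Sb A m) : Sb A (cl G m) :=
  clN_spec hG 9 m h

theorem sb_one (A : Subgroup Hm) : Sb A 1 := fun x hx => by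
  rw [show x = 1 by revert x; decide]
  exact one_mem _

def fin (I : ℕ) : Bool :=
  (al.any fun c => !mem I c && al.all fun y => !mem I y || decide (mul y c = mul c y)) ||
    (al.all fun y => mem I y == (!y.f && !y.b)) || (al.all fun y => mem I y == (!y.f && !y.a)) ||
    (al.all fun y => mem I y == (y.a == y.b)) ||
    cen12.any fun t => mem I t.1 && mem I t.2.1 && mem I t.2.2 &&
      frc (cl [t.1, t.2.1, t.2.2] 1) fun J => al.all fun y => !mem I y || mem J y

def Cc (A : Subgroup Hm) : Prop := (∃ t ∈ cen12, A = gen3 t) ∨ A = A0 ∨ A = A1 ∨ A = E0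

theorem fin_spec {A : Subgroup Hm} (hA : centralizer (A : Set Hm) ≤ A) {I : ℕ} (h : ∀ x, mem I x = true ↔ x ∈ A)
    (k : fin I = true) : Cc A := by
  simp only [fin, frc_eq, Bool.or_eq_true, List.any_eq_true, List.all_eq_true, Bool.and_eq_true, Bool.not_eq_true',
    decide_eq_true_eq, beq_iff_eq] at k
  rcases k with (((⟨c, -, hc, k⟩ | k) | k) | k) | ⟨t, ht, ⟨⟨h1, h2⟩, h3⟩, k⟩
  · refine absurd ((h c).2 (hA fun y hy => (k y (mem_al y)).resolve_left ?_)) (by simp [hc])
    simp [(h y).2 hy]
  · exact .inr (.inl (Subgroup.ext fun y => by rw [← h, k y (mem_al y), mem_A0]))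
  · exact .inr (.inr (.inl (Subgroup.ext fun y => by rw [← h, k y (mem_al y), mem_A1])))
  · exact .inr (.inr (.inr (Subgroup.ext fun y => by rw [← h, k y (mem_al y), mem_E0])))
  · refine .inl ⟨t, ht, le_antisymm (fun y hy => cl_spec (G := [t.1, t.2.1, t.2.2]) (fun g hg => subset_closure ?_)
      (sb_one _) y ((k y (mem_al y)).resolve_left (by simp [(h y).2 hy]))) ((closure_le _).2 ?_)⟩
    · simpa using hg
    · rintro _ (rfl | rfl | rfl)
      exacts [(h _).1 h1, (h _).1 h2, (h _).1 h3]

def go : List Hm → List Hm → ℕ → ℕ → Bool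
  | [], _, I, O => (al.all fun y => mem I y || mem O y) && fin I
  | x :: l, G, I, O => bif mem I x || mem O x then go l G I O else
      (frc (cl (x :: G) I) fun J => (al.any fun y => mem J y && mem O y) || go l (x :: G) J O) &&
        frc (O ||| imgL x I al) fun O' => go l G I O'

theorem go_spec {A : Subgroup Hm} (hA : centralizer (A : Set Hm) ≤ A) : ∀ (l G : List Hm) (I O : ℕ),
    (∀ g ∈ G, g ∈ A) → Sb A I → (∀ x, mem O x = true → x ∉ A) → go l G I O = true → Cc A
  | [], _, I, O, _, hI, hO, k => by
    simp only [go, Bool.and_eq_true, List.all_eq_true, Bool.or_eq_true] at k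
    exact fin_spec hA (fun x => ⟨hI x, fun hx => (k.1 x (mem_al x)).resolve_right fun e => hO x e hx⟩) k.2
  | x :: l, G, I, O, hG, hI, hO, k => by
    rw [go] at k
    cases e : (mem I x || mem O x)
    · simp only [e, cond_false, frc_eq, Bool.and_eq_true, Bool.or_eq_true, List.any_eq_true] at k
      by_cases hx : x ∈ A
      · have hG' : ∀ g ∈ x :: G, g ∈ A := List.forall_mem_cons.2 ⟨hx, hG⟩
        rcases k.1 with ⟨y, -, h1, h2⟩ | k
        · exact absurd (cl_spec hG' hI y h1) (hO y h2)
        · exact go_spec hA l _ _ _ hG' (cl_spec hG' hI) hO k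
      · refine go_spec hA l _ _ _ hG hI (fun y hy => (mem_or.1 hy).elim (hO y) fun k => ?_) k.2
        obtain ⟨y', hy', rfl⟩ := imgL_spec _ k
        exact fun e => hx ((mul_mem_cancel_right (hI y' hy')).1 e)
    · rw [e, cond_true] at k
      exact go_spec hA l _ _ _ hG hI hO k

theorem go_true : go al [] 1 0 = true := by decide +kernel

end AH2cx

theorem ah2c : AH2c := fun A hA =>
  AH2cx.go_spec hA _ _ _ _ (by simp) (AH2cx.sb_one A) (by simp [AH2cx.mem]) AH2cx.go_true

end CL.HK
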