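/-
Project HK (S5175), case A: twelve subgroups of the group of order 32 whose automorphism groups are 2-groups.
-/
import Cfsg.Agent.HK.ADefs

set_option autoImplicit false

open Cfsg Subgroup

namespace CL.HK

namespace AH2px

/-- the number of an element -/
def enc (x : Hm) : ℕ := x.a.toNat + 2 * x.b.toNat + 4 * x.c.toNat + 8 * x.e.toNat + 16 * x.f.toNat

/-- the multiplication table -/
def tb : ℕ := 0x208a7018234392b629afa4ab785a33c7b3be6bbf28c8609c024bd0a6ad8eace968de12cff1aeef9e110e53006172169531ed952f5b4271f6379d73fd194c4384407a5485b5cc9d6d4bc650fe758df7dc01823208a7629af4392b85a33a4ab7e6bbfc7b3b09c0228c866ad8e4bd0a8de12ace96eef9ecff1a30061110e5531ed72169b4271952f5d73fdf637938440194c45b5cc7a548bc6509d6d4df7dcfe758629af4392b01823208a7e6bbfc7b3b85a33a4ab76ad8e4bd0a09c0228c86eef9ecff1a8de12ace96531ed7216930061110e5d73fdf6379b4271952f55b5cc7a54838440194c4df7dcfe758bc6509d6d44392b629af208a701823c7b3be6bbfa4ab785a334bd0a6ad8e28c8609c02c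ff1aeef9eace968de1272169531ed110e530061f6379d73fd952f5b42717a5485b5cc194c438440fe758df7dc9d6d4bc650a46d385657e67dbc775f204c301447625cb4354fac2f28d276ee3facf37e280e2090666a1ea4b16e94e11b5e95d6f19f7f9d10c0131c8552d0973d8d9ca30bdab4deb38ffbbc18820398a45a9287b9ac85657a46d3c775fe67db01447204c34354f625cb8d276ac2f2cf37eee3fa09066280e24b16e6a1eab5e9594e11f7f9dd6f1931c8510c0173d8d52d09bdab49ca30ffbbcdeb38398a4188207b9ac5a928e67dbc775fa46d385657625cb4354f204c301447ee3facf37eac2f28d2766a1ea4b16e280e209066d6f19f7f9d94e11b5e9552d0973d8d10c0131c85deb38ffbbc9ca30bdab45a9287b9ac18820398a4c775fe67db85657a46d34354f625cb01447204c3cf37eee3fa8d276ac2f24b16e6a1ea09066280e2f7f9dd6f19b5e9594e1173d8d52d0931c8510c01ffbbcdeb38bdab49ca307b9ac5a928398a418820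

/-- the table of powers -/
def tp : ℕ := 0xd93e0d93e0c9f44e8fc0d0f24f1fa0c1380c1380f9360f9360e9fc4c8f40f0fa4d1f20e1300e1300b82e0b82e0a8e4489ec0b1e2490ea0a0280a0280982609826088ec4a9e4091ea4b0e208020080200591e0591e0701c0701c0681a0681a060180601807916079160501405014048120481204010040100190e0190e0300c0300c0280a0280a020080200803906039060100401004008020080200000000000

def mu (x y : ℕ) : ℕ := (tb >>> (5 * (32 * x + y))) % 32

def pw (x i : ℕ) : ℕ := (tp >>> (5 * (8 * x + i))) % 32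

theorem enc_mul : ∀ x y : Hm, enc (x * y) = mu (enc x) (enc y) := by decide +kernel

theorem enc_pow : ∀ x : Hm, ∀ i < 8, enc (x ^ i) = pw (enc x) i := by decide +kernel

theorem enc_inj : ∀ x y : Hm, enc x = enc y → x = y := by decide +kernel

theorem enc_lt : ∀ x : Hm, enc x < 32 := by decide +kernel

theorem enc_inv : ∀ x : Hm, enc x⁻¹ = pw (enc x) 7 := by decide +kernel

theorem enc_one : enc 1 = 0 := rfl

/-- the entry of the table of exponents -/
def ent (E x : ℕ) : ℕ := (E >>> (10 * x)) % 1024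

def mem (E x : ℕ) : Bool := Nat.ble 512 (ent E x)

def wd (h₁ h₂ h₃ e : ℕ) : ℕ := mu (mu (pw h₁ (e % 8)) (pw h₂ (e / 8 % 8))) (pw h₃ (e / 64 % 8))

def fm (E h₁ h₂ h₃ x : ℕ) : ℕ := wd h₁ h₂ h₃ (ent E x)

def chk1 (E g₁ g₂ g₃ : ℕ) : Bool :=
  mem E 0 && mem E g₁ && mem E g₂ && mem E g₃ && (List.range 32).all fun x => !mem E x ||
    (mem E (pw x 7) && Nat.beq (fm E g₁ g₂ g₃ x) x && (List.range 32).all fun y => !mem E y || mem E (mu x y))

def od (g h : ℕ) : Bool := (List.range 8).all fun n => Nat.beq (pw h n) 0 == Nat.beq (pw g n) 0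

def ok (E g₁ g₂ g₃ h₁ h₂ h₃ : ℕ) : Bool :=
  (List.range 32).all fun y => !mem E y || ((Nat.beq (fm E h₁ h₂ h₃ y) 0 == Nat.beq y 0) &&
    Nat.beq (fm E h₁ h₂ h₃ (mu g₁ y)) (mu h₁ (fm E h₁ h₂ h₃ y)) &&
    Nat.beq (fm E h₁ h₂ h₃ (mu g₂ y)) (mu h₂ (fm E h₁ h₂ h₃ y)) &&
    Nat.beq (fm E h₁ h₂ h₃ (mu g₃ y)) (mu h₃ (fm E h₁ h₂ h₃ y)))

def chk2 (E g₁ g₂ g₃ : ℕ) : Bool :=
  (List.range 32).all fun h₁ => !(mem E h₁ && od g₁ h₁) || (List.range 32).all fun h₂ => !(mem E h₂ && od g₂ h₂) ||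
    (List.range 32).all fun h₃ => !(mem E h₃ && od g₃ h₃) || !ok E g₁ g₂ g₃ h₁ h₂ h₃ ||
      (Nat.beq ((fm E h₁ h₂ h₃)^[8] g₁) g₁ && Nat.beq ((fm E h₁ h₂ h₃)^[8] g₂) g₂ &&
        Nat.beq ((fm E h₁ h₂ h₃)^[8] g₃) g₃)

theorem enc_wd (a b c : Hm) (e : ℕ) :
    enc (a ^ (e % 8) * b ^ (e / 8 % 8) * c ^ (e / 64 % 8)) = wd (enc a) (enc b) (enc c) e := by
  rw [enc_mul, enc_mul, enc_pow _ _ (Nat.mod_lt _ (by decide)), enc_pow _ _ (Nat.mod_lt _ (by decide)),
    enc_pow _ _ (Nat.mod_lt _ (by decide)), wd]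

theorem enc_zero {x : Hm} : enc x = 0 ↔ x = 1 := ⟨fun h => enc_inj x 1 h, fun h => h ▸ enc_one⟩

theorem beq_iff {a b c d : ℕ} (h : a = b ↔ c = d) : (Nat.beq a b == Nat.beq c d) = true := by
  rw [beq_iff_eq, Bool.eq_iff_iff, Nat.beq_eq, Nat.beq_eq]
  exact h

theorem main (E : ℕ) (t : Hm × Hm × Hm) (h1 : chk1 E (enc t.1) (enc t.2.1) (enc t.2.2) = true)
    (h2 : chk2 E (enc t.1) (enc t.2.1) (enc t.2.2) = true) : IsPGroup 2 (MulAut (Hm.gen3 t)) := by
  obtain ⟨g₁, g₂, g₃⟩ := t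
  simp only [chk1, Bool.and_eq_true, List.all_eq_true, List.mem_range, Bool.or_eq_true, Bool.not_eq_true',
    Nat.beq_eq] at h1
  obtain ⟨⟨⟨⟨m0, m1⟩, m2⟩, m3⟩, h1⟩ := h1
  have h1' : ∀ x : Hm, mem E (enc x) = true → mem E (enc x⁻¹) = true ∧ fm E (enc g₁) (enc g₂) (enc g₃) (enc x) = enc x ∧
      ∀ y : Hm, mem E (enc y) = true → mem E (enc (x * y)) = true := by
    intro x hx
    obtain ⟨⟨a1, a2⟩, a3⟩ := (h1 _ (enc_lt x)).resolve_left (by rw [hx]; decide)
    refine ⟨by rw [enc_inv]; exact a1, a2, fun y hy => ?_⟩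
    rw [enc_mul]
    exact (a3 _ (enc_lt y)).resolve_left (by rw [hy]; decide)
  have hA : ∀ x ∈ Hm.gen3 (g₁, g₂, g₃), mem E (enc x) = true := by
    intro x hx
    induction hx using closure_induction with
    | mem x hx =>
      rcases hx with rfl | rfl | rfl
      exacts [m1, m2, m3]
    | one => exact m0
    | mul x y _ _ hx hy => exact (h1' x hx).2.2 y hy
    | inv x _ hx => exact (h1' x hx).1
  let G₁ : Hm.gen3 (g₁, g₂, g₃) := ⟨g₁, subset_closure (Or.inl rfl)⟩
  let G₂ : Hm.gen3 (g₁, g₂, g₃) := ⟨g₂, subset_closure (Or.inr (Or.inl rfl))⟩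
  let G₃ : Hm.gen3 (g₁, g₂, g₃) := ⟨g₃, subset_closure (Or.inr (Or.inr rfl))⟩
  have hw : ∀ x : Hm.gen3 (g₁, g₂, g₃), x = G₁ ^ (ent E (enc x) % 8) * G₂ ^ (ent E (enc x) / 8 % 8) *
      G₃ ^ (ent E (enc x) / 64 % 8) := by
    intro x
    apply Subtype.ext
    apply enc_inj
    rw [coe_mul, coe_mul, coe_pow, coe_pow, coe_pow, enc_wd]
    exact (h1' x (hA x x.2)).2.1.symm
  intro α
  have hf : ∀ x : Hm.gen3 (g₁, g₂, g₃), enc (α x) = fm E (enc (α G₁)) (enc (α G₂)) (enc (α G₃)) (enc x) := by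
    intro x
    conv_lhs => rw [hw x]
    rw [map_mul, map_mul, map_pow, map_pow, map_pow, coe_mul, coe_mul, coe_pow, coe_pow, coe_pow, enc_wd]
    rfl
  have hz : ∀ x : Hm.gen3 (g₁, g₂, g₃), enc (α x) = 0 ↔ enc x = 0 := by
    intro x
    rw [enc_zero, enc_zero, OneMemClass.coe_eq_one, OneMemClass.coe_eq_one, MulEquiv.map_eq_one_iff]
  have hod : ∀ x : Hm.gen3 (g₁, g₂, g₃), (mem E (enc (α x)) && od (enc x) (enc (α x))) = true := by
    intro x
    rw [Bool.and_eq_true]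
    refine ⟨hA _ (α x).2, List.all_eq_true.2 fun n hn => beq_iff ?_⟩
    rw [List.mem_range] at hn
    rw [← enc_pow _ _ hn, ← enc_pow _ _ hn, ← coe_pow, ← coe_pow, ← map_pow]
    exact hz _
  have hm : ∀ x y : Hm.gen3 (g₁, g₂, g₃), Nat.beq (fm E (enc (α G₁)) (enc (α G₂)) (enc (α G₃)) (mu (enc x) (enc y)))
      (mu (enc (α x)) (fm E (enc (α G₁)) (enc (α G₂)) (enc (α G₃)) (enc y))) = true := by
    intro x y
    rw [Nat.beq_eq, ← enc_mul, ← coe_mul, ← hf, ← hf, ← enc_mul, ← coe_mul, map_mul]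
  have hok : ok E (enc g₁) (enc g₂) (enc g₃) (enc (α G₁)) (enc (α G₂)) (enc (α G₃)) = true := by
    refine List.all_eq_true.2 fun y hy => ?_
    cases hy' : mem E y
    · rfl
    rw [List.mem_range] at hy
    simp only [Bool.not_true, Bool.false_or, Bool.and_eq_true]
    have h3 := ((h1 y hy).resolve_left (by rw [hy']; decide)).1.2
    let Y : Hm.gen3 (g₁, g₂, g₃) := G₁ ^ (ent E y % 8) * G₂ ^ (ent E y / 8 % 8) * G₃ ^ (ent E y / 64 % 8)
    have hY : enc Y = y := by
      rw [← h3]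
      exact enc_wd g₁ g₂ g₃ _
    rw [← hY]
    refine ⟨⟨⟨beq_iff ?_, hm G₁ Y⟩, hm G₂ Y⟩, hm G₃ Y⟩
    rw [← hf]
    exact hz Y
  have hit : ∀ n (x : Hm.gen3 (g₁, g₂, g₃)),
      enc ((α ^ n) x) = (fm E (enc (α G₁)) (enc (α G₂)) (enc (α G₃)))^[n] (enc x) := by
    intro n
    induction n with
    | zero => intro x; rfl
    | succ n ih =>
      intro x
      rw [pow_succ, MulAut.mul_apply, ih, hf x, Function.iterate_succ_apply]
  have a1 := List.all_eq_true.1 h2 (enc (α G₁)) (List.mem_range.2 (enc_lt _))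
  rw [hod G₁, Bool.not_true, Bool.false_or] at a1
  have a2 := List.all_eq_true.1 a1 (enc (α G₂)) (List.mem_range.2 (enc_lt _))
  rw [hod G₂, Bool.not_true, Bool.false_or] at a2
  have a3 := List.all_eq_true.1 a2 (enc (α G₃)) (List.mem_range.2 (enc_lt _))
  rw [hod G₃, hok, Bool.not_true, Bool.false_or, Bool.false_or, Bool.and_eq_true, Bool.and_eq_true, Nat.beq_eq,
    Nat.beq_eq, Nat.beq_eq] at a3
  have b1 : (α ^ 8) G₁ = G₁ := Subtype.ext (enc_inj _ _ ((hit 8 G₁).trans a3.1.1))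
  have b2 : (α ^ 8) G₂ = G₂ := Subtype.ext (enc_inj _ _ ((hit 8 G₂).trans a3.1.2))
  have b3 : (α ^ 8) G₃ = G₃ := Subtype.ext (enc_inj _ _ ((hit 8 G₃).trans a3.2))
  refine ⟨3, MulEquiv.ext fun x => ?_⟩
  show (α ^ 8) x = x
  conv_lhs => rw [hw x]
  rw [map_mul, map_mul, map_pow, map_pow, map_pow, b1, b2, b3, ← hw x]

end AH2px

open AH2px Hm in
theorem ah2p : AH2p := by
  intro t ht
  simp only [cen12, List.mem_cons, List.not_mem_nil, or_false] at ht
  rcases ht with rfl | rfl | rfl | rfl | rfl | rfl | rfl | rfl | rfl | rfl | rfl | rfl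
  · exact main 0x20581c000020180c00000000000000000000000000000000000000000081800002048080000200 _ (by decide +kernel) (by decide +kernel)
  · exact main 0x82c00000008240000000000000020a000000020880c0000000804000000000000002020000000200 _ (by decide +kernel) (by decide +kernel)
  · exact main 0x203000000020182800000008200000000824000000082c000000000000002020000000200 _ (by decide +kernel) (by decide +kernel)
  · exact main 0x20580c000020181c000000000000000000000080800002048180000200 _ (by decide +kernel) (by decide +kernel)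
  · exact main 0x82c000020a824000020880c00002028040000200 _ (by decide +kernel) (by decide +kernel)
  · exact main 0x20983c000020d82c000020580c000020181c00828000020c838000020880800002048180000200 _ (by decide +kernel) (by decide +kernel)
  · exact main 0x82e0580e0d83e0181e090000000000000000000080a0e8320481a0a82200 _ (by decide +kernel) (by decide +kernel)
  · exact main 0x83e0581e0d82e0180e09000000000000000000000000000000000000000081a0a8320480a0e82200 _ (by decide +kernel) (by decide +kernel)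
  · exact main 0x82e4992a0a8264b9220880e4190a028064390200 _ (by decide +kernel) (by decide +kernel)
  · exact main 0x83c000020982c000020d0020580c000020181c000020e830000020a8200080800002048180000200 _ (by decide +kernel) (by decide +kernel)
  · exact main 0x20581c000020180c00838000020c82800002080020d83c000020982c0081800002048080000200 _ (by decide +kernel) (by decide +kernel)
  · exact main 0x9364191e4f9264590e4b8260580e0b8360181e0f90a4c92a4491a4893a4080a0c82a0481a0883a00 _ (by decide +kernel) (by decide +kernel)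

end CL.HK
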