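/-
Project HK (S5175), step AH3: the automorphisms of `⟨v, z, d⟩` in the system.
-/
import Cfsg.Agent.HK.ADefs

set_option autoImplicit false

open Cfsg Subgroup

namespace CL.HK

open CL.Fus CL.Loc CL.Grp CL.Inv

universe u

namespace AH3x

open Hm

def ap (h : Hm × Hm × Hm) (x : Hm) : Hm :=
  (bif x.a then h.1 else 1) * (bif x.c then h.2.1 else 1) * (bif x.e then h.2.2 else 1)

def cp (h k : Hm × Hm × Hm) : Hm × Hm × Hm := (ap h k.1, ap h k.2.1, ap h k.2.2)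

def tr (α : MulAut A0) : Hm × Hm × Hm := (α ⟨v, rfl⟩, α ⟨z, rfl⟩, α ⟨d, rfl⟩)

def tI : Hm × Hm × Hm := (v, z, d)
def tR : Hm × Hm × Hm := (z, v * z, d)
def tW : Hm × Hm × Hm := (v * z, z, d)
def L6 : List (Hm × Hm × Hm) := [tI, tR, cp tR tR, tW, cp tR tW, cp tR (cp tR tW)]

theorem apI : ∀ x : Hm, (!x.f && !x.b) = true → ap tI x = x := by decide

theorem key : ∀ h1 : Hm, (!h1.f && !h1.b) = true → ∀ h2 : Hm, (!h2.f && !h2.b) = true → ∀ h3 : Hm,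
    (!h3.f && !h3.b) = true → (∀ x : Hm, (!x.f && !x.b) = true → ap (h1, h2, h3) x = 1 → x = 1) →
    ((h1, h2, h3) ∈ L6 ↔ ∀ x : Hm, (!x.f && !x.b) = true →
      (ap (h1, h2, h3) x).e = x.e ∧ (x = d → ap (h1, h2, h3) x = d)) ∧
    ((h1, h2, h3) ∈ L6 ∨ ∃ s ∈ L6, cp (cp s (h1, h2, h3)) (cp s (h1, h2, h3)) ≠ tI ∧
      cp (cp (cp s (h1, h2, h3)) (cp s (h1, h2, h3))) (cp (cp s (h1, h2, h3)) (cp s (h1, h2, h3))) = tI) := by
  decide +kernel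

theorem sqc : ∀ g x : Hm, x * x = 1 → x * (g * x * g⁻¹) = g * x * g⁻¹ * x → g * (g * x * g⁻¹) * g⁻¹ = x := by
  decide +kernel

theorem hom_ap {Ω : Type*} [Group Ω] {φ : Hm →* Ω} {f : Ω → Ω} (hf : HomOn (A0.map φ) f) {t : Hm × Hm × Hm}
    (h1 : f (φ v) = φ t.1) (h2 : f (φ z) = φ t.2.1) (h3 : f (φ d) = φ t.2.2) {x : Hm} (hx : x ∈ A0) :
    f (φ x) = φ (ap t x) := by
  have m : ∀ (b : Bool) (y y' : Hm), y ∈ A0 → f (φ y) = φ y' →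
      φ (bif b then y else 1) ∈ A0.map φ ∧ f (φ (bif b then y else 1)) = φ (bif b then y' else 1) := fun b y y' hy e => by
    cases b
    · exact ⟨⟨1, one_mem _, rfl⟩, by simp only [cond_false, map_one, hf.map_one]⟩
    · exact ⟨⟨y, hy, rfl⟩, e⟩
  have a := m x.a v _ rfl h1
  have c := m x.c z _ rfl h2
  have e := m x.e d _ rfl h3
  conv_lhs => rw [← apI x hx]
  simp only [ap, tI, map_mul]
  rw [hf _ (mul_mem a.1 c.1) _ e.1, hf _ a.1 _ c.1, a.2, c.2, e.2]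

theorem ap_tr (α : MulAut A0) (x : A0) : ap (tr α) x = α x := by
  have h := hom_ap (φ := MonoidHom.id Hm) (f := autFun α) (t := tr α) (by rw [map_id]; exact homOn_autFun α)
    (autFun_apply α _) (autFun_apply α _) (autFun_apply α _) x.2
  exact h.symm.trans (autFun_coe α x)

theorem tr_mul (α β : MulAut A0) : tr (α * β) = cp (tr α) (tr β) :=
  Prod.ext (ap_tr α _).symm (Prod.ext (ap_tr α _).symm (ap_tr α _).symm)

theorem tr_inj {α β : MulAut A0} (h : tr α = tr β) : α = β :=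
  MulEquiv.ext fun x => Subtype.ext (by rw [← ap_tr, ← ap_tr, h])

theorem e2 {Ω : Type*} [Group Ω] {S : Subgroup Ω} [Finite S] {F : FusionSystem S} (hF : F.IsSaturated 2)
    (hS : ∀ g ∈ S, ∀ x ∈ S, x * x = 1 → x * (g * x * g⁻¹) = g * x * g⁻¹ * x → g * (g * x * g⁻¹) * g⁻¹ = x)
    {P : Subgroup Ω} (hP : P ≤ S) (h2 : ∀ x ∈ P, x * x = 1) {y : MulAut P} (hy : y ∈ F.autGroup P)
    (y4 : y * y * (y * y) = 1) : y * y = 1 := by
  obtain ⟨Q, hQ, ⟨hQS, R, hR⟩, -⟩ := hF P hP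
  obtain ⟨g, hg, hQ⟩ := isConj_iff.1 hQ
  have := finite_of_le hQS
  have q2 : ∀ x ∈ Q, x * x = 1 := fun x hx => by
    obtain ⟨p, hp, rfl⟩ := hg.mem_img.1 (hQ ▸ hx)
    rw [← hg.homOn _ hp _ hp, h2 p hp, hg.homOn.map_one]
  have r2 : ∀ a : R, a * a = 1 := fun a => by
    have ha : (a : F.autGroup Q) ∈ (autInducedBy S Q).subgroupOf (F.autGroup Q) := hR ▸ a.2
    obtain ⟨k, hk, e⟩ := mem_autInducedBy.1 (mem_subgroupOf.1 ha)
    refine Subtype.ext (Subtype.ext (aut_ext fun x hx => ?_))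
    have m := autFun_mem ((a : F.autGroup Q) : MulAut Q) hx
    refine (autFun_mul _ _ hx).trans ((e _ m).trans ?_)
    rw [e x hx] at m ⊢
    refine (hS k hk x (hQS hx) (q2 x hx) ?_).trans (autFun_one hx).symm
    have i : ∀ x ∈ Q, x⁻¹ = x := fun x hx => inv_eq_of_mul_eq_one_right (q2 x hx)
    have := i _ (mul_mem hx m)
    rw [mul_inv_rev, i _ hx, i _ m] at this
    exact this.symm
  set y' := hg.autGroupEquiv hQ ⟨y, hy⟩
  have y'4 : y' ^ 2 ^ 2 = 1 := by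
    rw [← map_pow, MulEquiv.map_eq_one_iff]
    exact Subtype.ext (show y ^ (2 + 2) = 1 by rw [pow_add, pow_two, y4])
  obtain ⟨R', hR'⟩ := (show IsPGroup 2 (zpowers y') from fun ⟨_, i, rfl⟩ => ⟨2, Subtype.ext (by
    change (y' ^ i) ^ 2 ^ 2 = 1
    rw [← zpow_natCast, ← zpow_mul, mul_comm, zpow_mul, zpow_natCast, y'4, one_zpow])⟩).exists_le_sylow
  have e := congrArg (Sylow.equiv R R') (r2 ((Sylow.equiv R R').symm ⟨y', hR' (mem_zpowers _)⟩))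
  rw [map_mul, MulEquiv.apply_symm_apply, map_one] at e
  have e' : y' * y' = 1 := congrArg Subtype.val e
  rw [← map_mul, MulEquiv.map_eq_one_iff] at e'
  exact congrArg Subtype.val e'

end AH3x

open AH3x Hm in
theorem ah3 : AH3.{u} := by
  intro Ω _ S _ F φ α f hF h hf
  have hP : A0.map φ ≤ S := h.rng ▸ map_le_range φ _
  set e := MulAut.congr (A0.equivMapOfInjective φ h.inj)
  have mem : ∀ (α : MulAut A0) (f : Ω → Ω), (∀ x : A0, f (φ x) = φ (α x)) →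
      (Mor F (A0.map φ) f ↔ e α ∈ F.autGroup (A0.map φ)) := fun α f hf => by
    have : ∀ y ∈ A0.map φ, f y = autFun (e α) y := by
      rintro _ ⟨x, hx, rfl⟩
      rw [autFun_apply _ (⟨x, hx, rfl⟩ : φ x ∈ A0.map φ), hf ⟨x, hx⟩,
        show (⟨φ x, x, hx, rfl⟩ : A0.map φ) = A0.equivMapOfInjective φ h.inj ⟨x, hx⟩ from rfl]
      simp [e, MulAut.congr]
    rw [mem_autGroup_iff hP]
    exact ⟨fun m => m.congr this, fun m => m.congr fun y hy => (this y hy).symm⟩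
  have lift : ∀ (g : Ω → Ω) (t : Hm × Hm × Hm), Mor F (A0.map φ) g → g (φ v) = φ t.1 → g (φ z) = φ t.2.1 →
      g (φ d) = φ t.2.2 → (∀ x : Hm, (!x.f && !x.b) = true → (!(ap t x).f && !(ap t x).b) = true) →
      ∃ σ, e σ ∈ F.autGroup (A0.map φ) ∧ tr σ = t := fun g t hg h1 h2 h3 h4 => by
    obtain ⟨β, hβ, b⟩ := hg.exists_aut' le_rfl (by
      rintro _ ⟨x, hx, rfl⟩
      exact ⟨_, h4 x hx, (hom_ap hg.homOn h1 h2 h3 hx).symm⟩)
    have k : ∀ x : A0, φ (e.symm β x) = g (φ x) := fun x => by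
      rw [← b _ ⟨x, x.2, rfl⟩, autFun_apply _ (⟨x, x.2, rfl⟩ : φ x ∈ A0.map φ),
        show (⟨φ x, x, x.2, rfl⟩ : A0.map φ) = A0.equivMapOfInjective φ h.inj x from rfl,
        ← coe_equivMapOfInjective_apply A0 φ h.inj]
      simp [e, MulAut.congr]
    exact ⟨e.symm β, by rwa [MulEquiv.apply_symm_apply], Prod.ext (h.inj ((k _).trans h1))
      (Prod.ext (h.inj ((k _).trans h2)) (h.inj ((k _).trans h3)))⟩
  obtain ⟨r, hr, r1, r2, r3⟩ := h.rho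
  obtain ⟨ρ, hρ, tρ⟩ := lift r tR hr r1 r2 r3 (by decide)
  obtain ⟨τ, hτ, tτ⟩ := lift _ tW (mor_conj F hP (h.rng ▸ ⟨w, rfl⟩ : φ w ∈ S))
    (by rw [← map_inv, ← map_mul, ← map_mul]; rfl) (by rw [← map_inv, ← map_mul, ← map_mul]; rfl)
    (by rw [← map_inv, ← map_mul, ← map_mul]; rfl) (by decide)
  have mul : ∀ {s t : Hm × Hm × Hm}, (∃ σ, e σ ∈ F.autGroup (A0.map φ) ∧ tr σ = s) →
      (∃ σ, e σ ∈ F.autGroup (A0.map φ) ∧ tr σ = t) → ∃ σ, e σ ∈ F.autGroup (A0.map φ) ∧ tr σ = cp s t := by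
    rintro _ _ ⟨a, ha, rfl⟩ ⟨b, hb, rfl⟩
    exact ⟨a * b, map_mul e a b ▸ mul_mem ha hb, tr_mul a b⟩
  have six : ∀ s ∈ L6, ∃ σ, e σ ∈ F.autGroup (A0.map φ) ∧ tr σ = s := by
    simp only [L6, List.forall_mem_cons, List.not_mem_nil, false_imp_iff, implies_true, and_true]
    exact ⟨⟨1, map_one e ▸ one_mem _, rfl⟩, ⟨ρ, hρ, tρ⟩, mul ⟨ρ, hρ, tρ⟩ ⟨ρ, hρ, tρ⟩, ⟨τ, hτ, tτ⟩,
      mul ⟨ρ, hρ, tρ⟩ ⟨τ, hτ, tτ⟩, mul ⟨ρ, hρ, tρ⟩ (mul ⟨ρ, hρ, tρ⟩ ⟨τ, hτ, tτ⟩)⟩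
  obtain ⟨k1, k2⟩ := key _ (α ⟨v, rfl⟩).2 _ (α ⟨z, rfl⟩).2 _ (α ⟨d, rfl⟩).2 fun x hx e =>
    congrArg Subtype.val (α.map_eq_one_iff.1 (Subtype.ext ((ap_tr α ⟨x, hx⟩).symm.trans e)))
  change tr α ∈ L6 ↔ ∀ x : Hm, x ∈ A0 → (ap (tr α) x).e = x.e ∧ (x = d → ap (tr α) x = d) at k1
  have k3 : tr α ∈ L6 ↔ ∀ x : A0, (α x : Hm).e = (x : Hm).e ∧ ((x : Hm) = d → (α x : Hm) = d) :=
    k1.trans ⟨fun k x => ap_tr α x ▸ k x x.2, fun k x hx => (ap_tr α ⟨x, hx⟩).symm ▸ k ⟨x, hx⟩⟩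
  rw [mem α f hf, ← k3]
  refine ⟨fun m => k2.resolve_right ?_, fun m => ?_⟩
  · rintro ⟨s, hs, n2, n4⟩
    obtain ⟨σ, hσ, rfl⟩ := six s hs
    change cp (cp _ (tr α)) (cp _ (tr α)) ≠ tr 1 at n2
    change cp (cp (cp _ (tr α)) (cp _ (tr α))) (cp (cp _ (tr α)) (cp _ (tr α))) = tr 1 at n4
    simp only [← tr_mul] at n2 n4
    refine n2 (congrArg tr (e.map_eq_one_iff.1 ?_))
    rw [map_mul]
    refine e2 hF ?_ hP ?_ (map_mul e σ α ▸ mul_mem hσ m) (by rw [← map_mul, ← map_mul, tr_inj n4, map_one])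
    · rw [← h.rng]
      rintro _ ⟨g, rfl⟩ _ ⟨x, rfl⟩ h1 h2
      simp only [← map_inv, ← map_mul] at h1 h2 ⊢
      exact congrArg φ (sqc g x (h.inj (h1.trans (map_one φ).symm)) (h.inj h2))
    · rintro _ ⟨x, hx, rfl⟩
      rw [← map_mul, (by decide : ∀ x : Hm, (!x.f && !x.b) = true → x * x = 1) x hx, map_one]
  · obtain ⟨σ, hσ, t⟩ := six _ m
    exact tr_inj t ▸ hσ

end CL.HK
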