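/-
Project HK (S5175): the automorphisms of `4 ∘ Q₈` in the fusion system over the group of order 32.
-/
import Cfsg.Agent.HK.ADefs

set_option autoImplicit false

open Cfsg Subgroup
open scoped commutatorElement MatrixGroups

namespace CL.HK

open CL.Fus CL.Loc CL.Grp CL.Inv

universe u

theorem ah4_normal : Hm.E0.Normal := ⟨by
  have : ∀ n : Hm, (n.a == n.b) = true → ∀ g : Hm, ((g * n * g⁻¹).a == (g * n * g⁻¹).b) = true := by decide +kernel
  exact this⟩

attribute [local instance] ah4_normal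

/-- the automorphisms induced by conjugation -/
def ah4C : Subgroup (MulAut Hm.E0) := (MulAut.conjNormal : Hm →* MulAut Hm.E0).range

theorem ah4_mem {α : MulAut Hm.E0} : α ∈ ah4C ↔ ∃ g : Hm, ∀ x : Hm.E0, (α x : Hm) = g * x * g⁻¹ := by
  constructor
  · rintro ⟨g, rfl⟩
    exact ⟨g, fun x => MulAut.conjNormal_apply g x⟩
  · rintro ⟨g, hg⟩
    exact ⟨g, MulEquiv.ext fun x => Subtype.ext ((MulAut.conjNormal_apply g x).trans (hg x).symm)⟩

theorem ah4_ker : Nat.card (MulAut.conjNormal : Hm →* MulAut Hm.E0).ker = 4 := by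
  have h1 : ∀ g : Hm, g ∈ (MulAut.conjNormal : Hm →* MulAut Hm.E0).ker ↔
      ∀ x : Hm, (x.a == x.b) = true → g * x * g⁻¹ = x := fun g => by
    rw [MonoidHom.mem_ker]
    constructor
    · intro h x hx
      have := MulAut.conjNormal_apply (H := Hm.E0) g ⟨x, hx⟩
      rw [h] at this
      exact this.symm
    · intro h
      exact MulEquiv.ext fun x => Subtype.ext ((MulAut.conjNormal_apply g x).trans (h x x.2))
  rw [Nat.card_congr (Equiv.subtypeEquivRight h1), Nat.card_eq_fintype_card, Fintype.card_subtype]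
  decide +kernel

theorem ah4_card : Nat.card ah4C = 8 := by
  have h1 := card_mul_index (MulAut.conjNormal : Hm →* MulAut Hm.E0).ker
  rw [index_ker, ah4_ker, Hm.card_eq] at h1
  unfold ah4C
  omega

theorem ah4_le : ah4C ≤ Gam := fun _ h => subset_closure (Or.inl (ah4_mem.1 h))

theorem ah4_eq (h : AHE) {G0 : Subgroup (MulAut Hm.E0)} (h1 : ah4C ≤ G0) (h2 : ¬ 2 ∣ ah4C.relIndex G0)
    (h3 : ¬ IsPGroup 2 G0) : Gam = G0 := by
  have h48 : Nat.card (MulAut Hm.E0) = 48 := h
  have e1 : Nat.card ah4C * ah4C.relIndex G0 = Nat.card G0 := card_mul_relIndex h1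
  have e2 := card_mul_index G0
  rw [ah4_card] at e1
  rw [h48, ← e1] at e2
  have e3 : ah4C.relIndex G0 ∣ 2 * 3 := ⟨G0.index, by nlinarith⟩
  have e4 : ah4C.relIndex G0 ∣ 3 :=
    ((Nat.prime_two.coprime_iff_not_dvd.2 h2).symm).dvd_of_dvd_mul_left e3
  have e5 : ah4C.relIndex G0 = 3 := by
    rcases (Nat.dvd_prime Nat.prime_three).1 e4 with e | e
    · exact absurd (IsPGroup.of_card (n := 3) (by rw [← e1, e]; norm_num)) h3
    · exact e
  rw [e5] at e1 e2
  have e6 : G0.index = 2 := by omega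
  have hle : Gam ≤ G0 := by
    refine (closure_le _).2 ?_
    rintro α (hα | hα)
    · exact h1 (ah4_mem.2 hα)
    · have h4 : α ^ 3 = 1 := by rw [← (hα : orderOf α = 3)]; exact pow_orderOf_eq_one α
      have : α = (α * α) * (α * α) := by
        calc α = α ^ 3 * α := by rw [h4, one_mul]
          _ = _ := by simp only [pow_succ, pow_zero, one_mul, mul_assoc]
      rw [SetLike.mem_coe, this]
      exact mul_self_mem_of_index_two e6 _
  refine eq_of_not_isPGroup_two hle (k := 3) (by rw [← e1]; norm_num) ?_ fun hp => ?_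
  · have := card_dvd_of_le ah4_le
    rwa [ah4_card] at this
  · have : Fact (Nat.Prime 3) := ⟨Nat.prime_three⟩
    obtain ⟨β, hβ⟩ := exists_prime_orderOf_dvd_card' (G := MulAut Hm.E0) 3 (by rw [h48]; norm_num)
    obtain ⟨k, hk⟩ := hp ⟨β, subset_closure (Or.inr hβ)⟩
    have h5 : β ^ 2 ^ k = 1 := congrArg Subtype.val hk
    have h6 := orderOf_dvd_of_pow_eq_one h5
    rw [hβ] at h6
    have := Nat.prime_three.dvd_of_dvd_pow h6
    omega

theorem ah4 (h : AHE) : AH4.{u} := by
  intro Ω _ S _ F φ α f hF H hon hf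
  have hmem : ∀ g : Hm, φ g ∈ S := fun g => H.rng ▸ ⟨g, rfl⟩
  have hsur : ∀ a ∈ S, ∃ g, φ g = a := fun a ha => by rw [← H.rng] at ha; exact ha
  have hP : Hm.E0.map φ ≤ S := by rintro _ ⟨g, -, rfl⟩; exact hmem g
  have hS : IsPGroup 2 S := by
    refine IsPGroup.of_card (n := 5) ?_
    rw [← H.rng, ← Nat.card_congr (MonoidHom.ofInjective H.inj).toEquiv, Hm.card_eq]; norm_num
  have hN : S ≤ normalizer ((Hm.E0.map φ : Subgroup Ω) : Set Ω) := by
    rw [← H.rng, MonoidHom.range_eq_map, ← normalizer_eq_top Hm.E0]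
    exact le_normalizer_map φ
  have hsyl := sylIn_of_fullyNormalized hS hF (isFullyNormalized_of_normalizerIn_eq F hP hN)
  have := finite_autGroup F (Hm.E0.map φ)
  let e : Hm.E0 ≃* Hm.E0.map φ := Hm.E0.equivMapOfInjective φ H.inj
  let Ψ : MulAut Hm.E0 ≃* MulAut (Hm.E0.map φ) := MulAut.congr e
  have hΨ : ∀ (β : MulAut Hm.E0) (x : Hm.E0), autFun (Ψ β) (φ x) = φ (β x) := fun β x => by
    have h1 : φ x = (e x : Ω) := rfl
    rw [h1, autFun_coe]
    simp only [Ψ, MulAut.congr_apply, MulEquiv.trans_apply, MulEquiv.symm_apply_apply]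
    rfl
  have hC : ah4C = (autInducedBy S (Hm.E0.map φ)).comap Ψ.toMonoidHom := by
    ext β
    rw [ah4_mem, mem_comap, mem_autInducedBy]
    constructor
    · rintro ⟨g, hg⟩
      refine ⟨φ g, hmem g, ?_⟩
      rintro _ ⟨x, hx, rfl⟩
      have := hΨ β ⟨x, hx⟩
      rw [hg, map_mul, map_mul, map_inv] at this
      exact this
    · rintro ⟨a, ha, hg⟩
      obtain ⟨g, rfl⟩ := hsur a ha
      refine ⟨g, fun x => H.inj ?_⟩
      rw [← hΨ, map_mul, map_mul, map_inv]
      exact hg _ ⟨x, x.2, rfl⟩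
  have key : Gam = (F.autGroup (Hm.E0.map φ)).comap Ψ.toMonoidHom := by
    refine ah4_eq h ?_ ?_ fun hp => hon ?_
    · rw [hC]; exact comap_mono hsyl.le
    · rw [hC, relIndex_comap, map_comap_eq_self_of_surjective Ψ.surjective]
      exact hsyl.not_dvd_relIndex
    · have := hp.map Ψ.toMonoidHom
      rwa [map_comap_eq_self_of_surjective Ψ.surjective] at this
  rw [key, mem_comap, mem_autGroup_iff hP]
  have hfe : ∀ x ∈ Hm.E0.map φ, f x = autFun (Ψ α) x := by
    rintro _ ⟨x, hx, rfl⟩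
    exact (hf ⟨x, hx⟩).trans (hΨ α ⟨x, hx⟩).symm
  exact ⟨fun hm => hm.congr hfe, fun hm => hm.congr fun x hx => (hfe x hx).symm⟩

end CL.HK
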