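/-
Project HK: a saturated fusion system over the group of order 32 is determined by the strong closure of `D₈ × 2`.
-/
import Cfsg.Agent.HK.ADefs

set_option autoImplicit false

open Cfsg Subgroup

namespace CL.HK

open CL.Fus CL.Loc CL.Grp CL.Inv

universe u u'

namespace AH5

variable {Ω : Type u} [Group Ω] {S : Subgroup Ω} {F F2 : FusionSystem S} {φ : Hm →* Ω}

theorem pull (hi : Function.Injective φ) (A : Subgroup Hm) (β : MulAut (A.map φ)) :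
    ∃ α : MulAut A, orderOf α = orderOf β ∧ ∀ x : A, autFun β (φ x) = φ (α x) := by
  let e := A.equivMapOfInjective φ hi
  refine ⟨(MulAut.congr e).symm β, MulEquiv.orderOf_eq _ _, fun x => ?_⟩
  rw [autFun_apply β (mem_map_of_mem φ x.2)]
  exact (congrArg Subtype.val (e.apply_symm_apply (β (e x)))).symm

theorem le_S (H : H32 F φ) (A : Subgroup Hm) : A.map φ ≤ S := H.rng ▸ map_le_range φ A

theorem pS (H : H32 F φ) : IsPGroup 2 S :=
  H.rng ▸ (IsPGroup.of_card (n := 5) Hm.card_eq).of_equiv (MonoidHom.ofInjective H.inj)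

theorem pAut (h2 : AHS) (H : H32 F φ) : IsPGroup 2 (F.autGroup S) :=
  (h2.1.of_equiv (MulAut.congr ((MonoidHom.ofInjective H.inj).trans (MulEquiv.subgroupCongr H.rng)))).to_subgroup _

theorem img_A0 (H : H32 F φ) : img (fun x => φ Hm.s * x * (φ Hm.s)⁻¹) (Hm.A0.map φ) = Hm.A1.map φ := by
  have a : ∀ x : Hm, (!x.f && !x.b) = true → (!(Hm.s * x * Hm.s⁻¹).f && !(Hm.s * x * Hm.s⁻¹).a) = true := by decide
  have b : ∀ x : Hm, (!x.f && !x.a) = true → (!(Hm.s⁻¹ * x * Hm.s).f && !(Hm.s⁻¹ * x * Hm.s).b) = true := by decide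
  refine le_antisymm (img_le_iff.2 ?_) ?_
  · rintro _ ⟨x, hx, rfl⟩
    exact ⟨Hm.s * x * Hm.s⁻¹, a x hx, by rw [map_mul, map_mul, map_inv]⟩
  · rintro _ ⟨x, hx, rfl⟩
    have := mem_img_of_mem (fun x => φ Hm.s * x * (φ Hm.s)⁻¹) (mem_map_of_mem φ (show _ ∈ Hm.A0 from b x hx))
    rwa [map_mul, map_mul, map_inv,
      show φ Hm.s * ((φ Hm.s)⁻¹ * φ x * φ Hm.s) * (φ Hm.s)⁻¹ = φ x by group] at this

variable [Finite S]

theorem le (h1 : AH2.{u}) (h2 : AHS) (h3 : AH3.{u}) (h4 : AH4.{u}) (hF : F.IsSaturated 2) (hF2 : F2.IsSaturated 2)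
    (H : H32 F φ) (H2 : H32 F2 φ) (ho : OnAut F (Hm.E0.map φ) → OnAut F2 (Hm.E0.map φ)) : F ≤ F2 := by
  have a0 : F.autGroup (Hm.A0.map φ) ≤ F2.autGroup (Hm.A0.map φ) := fun β hβ => by
    obtain ⟨α, -, hα⟩ := pull H.inj _ β
    exact (mem_autGroup_iff (le_S H _)).2 ((h3 Ω S F2 φ α _ hF2 H2 hα).2
      ((h3 Ω S F φ α _ hF H hα).1 (mor_autFun (le_S H _) hβ)))
  refine le_of_essential (pS H) hF (pAut h2 H) fun A hA => ?_
  rcases h1 Ω S F φ A hF H hA with rfl | rfl | rfl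
  · exact a0
  · have hs : φ Hm.s ∈ S := H.rng ▸ ⟨_, rfl⟩
    rw [← map_autGroup_congr (mor_conj F (le_S H _) hs) (img_A0 H),
      ← map_autGroup_congr (mor_conj F2 (le_S H _) hs) (img_A0 H)]
    exact map_mono a0
  · intro β hβ
    have o : OnAut F (Hm.E0.map φ) := IsEssential.not_isPGroup hA
    obtain ⟨α, -, hα⟩ := pull H.inj _ β
    exact (mem_autGroup_iff (le_S H _)).2 ((h4 Ω S F2 φ α _ hF2 H2 (ho o) hα).2
      ((h4 Ω S F φ α _ hF H o hα).1 (mor_autFun (le_S H _) hβ)))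

theorem onAut_iff (h1 : AH2.{u}) (h2 : AHS) (hF : F.IsSaturated 2) (H : H32 F φ) :
    OnAut F (Hm.E0.map φ) ↔ ¬ F.StronglyClosed (Hm.T0.map φ) := by
  constructor
  · intro o hT
    obtain ⟨β, hβ, ho, hn⟩ := o.exists_odd
    obtain ⟨α, e, hα⟩ := pull H.inj _ β
    refine hn (orderOf_eq_one_iff.1 (e ▸ orderOf_eq_one_iff.2 (h2.2 α (e ▸ ho) fun x hx => ?_)))
    rw [← mem_map_iff_mem H.inj, ← hα]
    exact (stronglyClosed_iff.1 hT).2 _ _ (mor_autFun (le_S H _) hβ) _ (mem_map_of_mem φ x.2) (mem_map_of_mem φ hx)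
  · refine not_imp_comm.1 fun o => stronglyClosed_iff.2 ⟨le_S H _, fun P f hf => ?_⟩
    refine alperin_induction (pS H) hF (fun f => ∀ x ∈ P, x ∈ Hm.T0.map φ → f x ∈ Hm.T0.map φ)
      (fun f h x hx hT => (h x hx).symm ▸ hT) (fun f g a A _ ih hA ha e hm hg x hx hT => ?_) hf
    rw [hg x hx]
    have hm' : a (f x) ∈ A := e ▸ mem_img_of_mem a (hm x hx)
    rcases hA with rfl | hA
    · obtain ⟨α, hα, hαa⟩ := ha.exists_aut e
      obtain ⟨b, hb, hb'⟩ := mem_Inn_iff.1 (autGroup_top_eq_Inn (pS H) hF (pAut h2 H) ▸ hα)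
      obtain ⟨c, rfl⟩ : b ∈ φ.range := H.rng ▸ hb
      obtain ⟨y, hy, hy'⟩ := ih x hx hT
      have n : ∀ c y : Hm, (!y.f) = true → (!(c * y * c⁻¹).f) = true := by decide +kernel
      rw [← hαa _ (hm x hx), hb' _ (hm x hx), ← hy', ← map_inv, ← map_mul, ← map_mul]
      exact mem_map_of_mem φ (n c y hy)
    rcases h1 Ω S F φ A hF H hA with rfl | rfl | rfl
    · exact map_mono (fun y (hy : (!y.f && !y.b) = true) => (Bool.and_eq_true_iff.1 hy).1) hm'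
    · exact map_mono (fun y (hy : (!y.f && !y.a) = true) => (Bool.and_eq_true_iff.1 hy).1) hm'
    · exact absurd (IsEssential.not_isPGroup hA) o

end AH5

theorem ah5 (h1 : AH2.{u}) (_h1b : AH2.{u'}) (h2 : AHS) (h3 : AH3.{u}) (_h3b : AH3.{u'}) (h4 : AH4.{u})
    (_h4b : AH4.{u'}) : AH5.{u, u'} := by
  intro Ω _ S _ F φ Ω' _ S' _ F' φ' hF hF' H H' hT
  obtain ⟨θ, η, h, hθ⟩ : ∃ θ η, GIso S S' θ η ∧ ∀ x, θ (φ x) = φ' x := by
    obtain ⟨hi, rfl, -⟩ := H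
    obtain ⟨hi', rfl, -⟩ := H'
    refine ⟨_, _, gIso_of_mulEquiv ((MonoidHom.ofInjective hi).symm.trans (MonoidHom.ofInjective hi')), fun x => ?_⟩
    rw [ext_apply _ (show φ x ∈ φ.range from ⟨x, rfl⟩)]
    exact congrArg φ' ((MonoidHom.ofInjective hi).symm_apply_apply x)
  have hη : ∀ x, η (φ' x) = φ x := fun x => by rw [← hθ, h.left _ (H.rng ▸ ⟨x, rfl⟩)]
  have im : ∀ A : Subgroup Hm, img θ (A.map φ) = A.map φ' := fun A => by
    refine le_antisymm (img_le_iff.2 ?_) ?_ <;> rintro _ ⟨x, hx, rfl⟩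
    · exact hθ x ▸ mem_map_of_mem φ' hx
    · exact hθ x ▸ mem_img_of_mem θ (mem_map_of_mem φ hx)
  have hI := (h.symm.fIso_transport F').symm
  have hs := hI.isSaturated_iff.1 hF'
  have H2 : H32 (h.symm.transport F') φ := by
    obtain ⟨f, hf, a, b, c⟩ := H'.rho
    exact ⟨H.inj, H.rng, _, hI.mor_pull (AH5.le_S H _) (im _ ▸ hf), by simp only [hθ, a, hη], by simp only [hθ, b, hη],
      by simp only [hθ, c, hη]⟩
  have o : OnAut F (Hm.E0.map φ) ↔ OnAut (h.symm.transport F') (Hm.E0.map φ) := by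
    rw [AH5.onAut_iff h1 h2 hF H, AH5.onAut_iff h1 h2 hs H2, hT, ← hI.stronglyClosed_iff (AH5.le_S H _), im]
  exact ⟨θ, η, fIso_of_eq_transport h (fusionSystem_le_antisymm (AH5.le h1 h2 h3 h4 hF hs H H2 o.1)
    (AH5.le h1 h2 h3 h4 hs hF H2 H o.2))⟩

end CL.HK
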