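/-
Project HK (S5175), job AHE: the automorphism group of `4 ∘ Q₈` has order 48.
-/
import Cfsg.Agent.HK.ADefs

set_option autoImplicit false

open Cfsg Subgroup

namespace CL.HK

namespace AHEx

open Hm

instance : DecidablePred (· ∈ E0) := fun x => decidable_of_iff _ (mem_E0 (x := x)).symm

abbrev v1 (a : Hm) : Prop := a ∈ E0 ∧ a * a ≠ 1
abbrev v2 (a b : Hm) : Prop := b ∈ E0 ∧ b * b = 1 ∧ b * a = a * b ∧ b ≠ 1 ∧ b ≠ a * a
abbrev v3 (a b c : Hm) : Prop := c ∈ E0 ∧ c * c = 1 ∧ c * a * c * a = 1 ∧ c * b = b * (a * a) * c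

/-- images of the generators -/
abbrev valid (t : Hm × Hm × Hm) : Prop := v1 t.1 ∧ v2 t.1 t.2.1 ∧ v3 t.1 t.2.1 t.2.2

def Ft {G : Type} [Group G] (t : G × G × G) (x : Hm) : G :=
  (bif x.a then t.1 else 1) * (bif x.c then t.1 * t.1 else 1) * (bif x.e then t.2.1 else 1) * (bif x.f then t.2.2 else 1)

def R : E0 := ⟨v * w, rfl⟩
def D : E0 := ⟨d, rfl⟩
def S : E0 := ⟨s, rfl⟩

theorem nf : ∀ x : E0, x = Ft (R, D, S) x := by decide +kernel

theorem hom_eq (ψ : E0 →* Hm) (x : E0) : ψ x = Ft (ψ R, ψ D, ψ S) x := by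
  have k : ∀ (b : Bool) (y : E0), ψ (bif b then y else 1) = bif b then ψ y else 1 := fun b y => by
    cases b <;> simp
  conv_lhs => rw [nf x]
  simp only [Ft, map_mul, k]

theorem good : ∀ a, v1 a → ∀ b, v2 a b → ∀ c, v3 a b c → Ft (a, b, c) R = a ∧ Ft (a, b, c) D = b ∧
    Ft (a, b, c) S = c ∧ ∀ x ∈ E0, Ft (a, b, c) x ∈ E0 ∧ (Ft (a, b, c) x = 1 → x = 1) ∧
      ∀ y ∈ E0, Ft (a, b, c) (x * y) = Ft (a, b, c) x * Ft (a, b, c) y := by decide +kernel

theorem cnt : (∑ a, if v1 a then ∑ b, if v2 a b then ∑ c, if v3 a b c then 1 else 0 else 0 else 0) = 48 := by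
  decide +kernel

theorem cardv : Fintype.card {t // valid t} = 48 := by
  rw [Fintype.card_subtype, Finset.card_filter, Fintype.sum_prod_type, ← cnt]
  refine Finset.sum_congr rfl fun a _ => ?_
  rw [Fintype.sum_prod_type]
  by_cases h1 : v1 a
  · rw [if_pos h1]
    refine Finset.sum_congr rfl fun b _ => ?_
    by_cases h2 : v2 a b
    · rw [if_pos h2]
      exact Finset.sum_congr rfl fun c _ => if_congr ⟨fun h => h.2.2, fun h => ⟨h1, h2, h⟩⟩ rfl rfl
    · rw [if_neg h2]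
      exact Finset.sum_eq_zero fun c _ => if_neg fun h => h2 h.2.1
  · rw [if_neg h1]
    exact Finset.sum_eq_zero fun b _ => Finset.sum_eq_zero fun c _ => if_neg fun h => h1 h.1

theorem valid_hom (ψ : E0 →* Hm) (hi : Function.Injective ψ) (hm : ∀ x, ψ x ∈ E0) : valid (ψ R, ψ D, ψ S) := by
  simp only [valid, v1, v2, v3, hm, true_and]
  rw [← map_one ψ]
  simp only [← map_mul, ne_eq, hi.eq_iff]
  decide +kernel

def toT (α : MulAut E0) : {t // valid t} :=
  ⟨_, valid_hom (E0.subtype.comp α.toMonoidHom) (Subtype.val_injective.comp α.injective) fun x => (α x).2⟩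

theorem bij : Function.Bijective toT := by
  refine ⟨fun α β e => MulEquiv.ext fun x => Subtype.ext ?_, fun ⟨t, ht⟩ => ?_⟩
  · exact (hom_eq (E0.subtype.comp α.toMonoidHom) x).trans
      ((congrArg (fun t : {t // valid t} => Ft t.1 x) e).trans (hom_eq (E0.subtype.comp β.toMonoidHom) x).symm)
  · obtain ⟨h1, h2, h3, h⟩ := good t.1 ht.1 t.2.1 ht.2.1 t.2.2 ht.2.2
    let ψ : E0 →* E0 := MonoidHom.mk' (fun x => ⟨Ft t x, (h x x.2).1⟩) fun x y => Subtype.ext ((h x x.2).2.2 y y.2)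
    have hi : Function.Injective ψ := (injective_iff_map_eq_one ψ).2 fun x e =>
      Subtype.ext ((h x x.2).2.1 (congrArg Subtype.val e))
    exact ⟨MulEquiv.ofBijective ψ (Finite.injective_iff_bijective.1 hi),
      Subtype.ext (Prod.ext h1 (Prod.ext h2 h3))⟩

end AHEx

theorem ahe : AHE := by
  rw [AHE, Nat.card_eq_of_bijective _ AHEx.bij, Nat.card_eq_fintype_card, AHEx.cardv]

end CL.HK
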