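/-
Project HK (S5175), case A: automorphisms of the group of order 32 and of its subgroup `4 ∘ Q₈`.
-/
import Cfsg.Agent.HK.ADefs

set_option autoImplicit false

open Cfsg Subgroup

namespace CL.HK

open Hm

namespace AHSx

theorem ahs_top : gen3 (w * s, w, d) = ⊤ := by
  refine top_le_iff.1 fun x _ => ?_
  obtain ⟨i, j, k, rfl⟩ := (by decide +kernel : ∀ x : Hm, ∃ (i : Fin 8) (j k : Fin 2),
    x = (w * s) ^ (i : ℕ) * w ^ (j : ℕ) * d ^ (k : ℕ)) x
  exact mul_mem (mul_mem (pow_mem (subset_closure (by simp)) _) (pow_mem (subset_closure (by simp)) _))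
    (pow_mem (subset_closure (by simp)) _)

/-- `v w` -/
def R : E0 := ⟨v * w, by rw [mem_E0]; decide⟩
/-- `d` -/
def D : E0 := ⟨d, by rw [mem_E0]; decide⟩
/-- `s` -/
def S : E0 := ⟨s, by rw [mem_E0]; decide⟩

theorem ahs_gen (x : E0) : ∃ i j k : ℕ, x = R ^ i * D ^ j * S ^ k := by
  obtain ⟨i, j, k, e⟩ := (by decide +kernel : ∀ x : Hm, (x.a == x.b) = true → ∃ (i : Fin 4) (j k : Fin 2),
    x = (v * w) ^ (i : ℕ) * d ^ (j : ℕ) * s ^ (k : ℕ)) x x.2
  exact ⟨i, j, k, Subtype.ext e⟩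

theorem ahs_R4 : R ^ 4 = 1 := Subtype.ext (by decide : (v * w) ^ 4 = 1)

theorem ahs_l1 : ∀ x y : Hm, (!x.f) = true → (x.a == x.b) = true → (y.a == y.b) = true → x * x ≠ 1 →
    y * x = x⁻¹ * y → y * y = 1 → (x = v * w ∨ x = (v * w) ^ 3) ∧ ∃ i : Fin 4, y = (v * w) ^ (i : ℕ) * s := by
  decide +kernel

theorem ahs_l2 : ∀ x : Hm, (!x.f) = true → (x.a == x.b) = true → x * x = 1 → x ≠ 1 → x ≠ (v * w) ^ 2 →
    x = d ∨ x = d * (v * w) ^ 2 := by decide +kernel

theorem ahs_four (α : MulAut E0) (h : ∀ x : E0, (x : Hm) ∈ T0 → (α x : Hm) ∈ T0) : α ^ 4 = 1 := by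
  have ne : ∀ {x y : E0}, (x : Hm) ≠ y → (α x : Hm) ≠ α y := fun n e => n (congrArg _ (α.injective (Subtype.ext e)))
  have eq : ∀ {x y : E0}, (x : Hm) = y → (α x : Hm) = α y := fun e => by rw [Subtype.ext e]
  obtain ⟨h1, i, h3⟩ := ahs_l1 (α R) (α S) (h R (by rw [mem_T0]; decide)) (α R).2 (α S).2
    (by simpa using ne (x := R * R) (y := 1) (by decide : v * w * (v * w) ≠ 1))
    (by simpa using eq (x := S * R) (y := R⁻¹ * S) (by decide : s * (v * w) = (v * w)⁻¹ * s))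
    (by simpa using eq (x := S * S) (y := 1) (by decide : s * s = 1))
  have h1' : α R = R ∨ α R = R ^ 3 := h1.imp Subtype.ext Subtype.ext
  have h3' : α S = R ^ (i : ℕ) * S := Subtype.ext h3
  have r2 : α (R ^ 2) = R ^ 2 := by
    rw [map_pow]
    rcases h1' with e | e <;> rw [e]
    rw [← pow_mul, show 3 * 2 = 4 + 2 from rfl, pow_add, ahs_R4, one_mul]
  have h2 := ahs_l2 (α D) (h D (by rw [mem_T0]; decide)) (α D).2
    (by simpa using eq (x := D * D) (y := 1) (by decide : d * d = 1))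
    (by simpa using ne (x := D) (y := 1) (by decide : d ≠ 1))
    (by
      have := ne (x := D) (y := R ^ 2) (by rw [coe_pow]; exact (by decide : d ≠ (v * w) ^ 2))
      rwa [r2, coe_pow] at this)
  have h2' : α D = D ∨ α D = D * R ^ 2 := h2.imp Subtype.ext Subtype.ext
  have bR : α (α R) = R := by
    rcases h1' with e | e
    · rw [e, e]
    · rw [e, map_pow, e, ← pow_mul, show 3 * 3 = 4 * 2 + 1 from rfl, pow_succ, pow_mul, ahs_R4, one_pow, one_mul]
  have bD : α (α D) = D := by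
    rcases h2' with e | e
    · rw [e, e]
    · rw [e, map_mul, e, r2, mul_assoc, ← pow_add, ahs_R4, mul_one]
  have bS : ∃ n, α (α S) = R ^ (2 * n) * S := by
    rw [h3', map_mul, map_pow, h3', ← mul_assoc]
    rcases h1' with e | e <;> rw [e]
    · exact ⟨i, by rw [← pow_add, two_mul]⟩
    · exact ⟨2 * i, by rw [← pow_mul, ← pow_add]; congr 2; ring⟩
  obtain ⟨n, bS⟩ := bS
  have cS : α (α (α (α S))) = S := by
    rw [bS, map_mul, map_mul, bS, map_pow, map_pow, bR, ← mul_assoc, ← pow_add, show 2 * n + 2 * n = 4 * n by ring,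
      pow_mul, ahs_R4, one_pow, one_mul]
  ext1 x
  obtain ⟨i, j, k, rfl⟩ := ahs_gen x
  have p4 : ∀ y, (α ^ 4) y = α (α (α (α y))) := fun _ => rfl
  rw [map_mul, map_mul, map_pow, map_pow, map_pow, p4, p4, p4, bR, bR, bD, bD, cS]; rfl

end AHSx

open AHSx in
theorem ahs (h : AH2p) : AHS :=
  ⟨(h (w * s, w, d) (by simp [cen12])).of_equiv (MulAut.congr ((MulEquiv.subgroupCongr ahs_top).trans topEquiv)),
    fun α ho hα => orderOf_eq_one_iff.1 (Nat.eq_one_of_dvd_coprimes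
      ((Nat.coprime_two_right.2 ho).pow_right 2) dvd_rfl (orderOf_dvd_of_pow_eq_one (ahs_four α hα)))⟩

end CL.HK
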