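/-
Project HK, case A: trivial `D` gives maximal class.
-/
import Cfsg.Agent.HK.ADefs
import Cfsg.Agent.Grp.PGroupMaxClass
import Cfsg.Agent.Inv.ZStar3

set_option autoImplicit false

open Cfsg Subgroup
open scoped commutatorElement

namespace CL.HK

open CL.Fus CL.Loc CL.Grp CL.Inv CL.Even

universe u

theorem am0_two {G : Type*} [Group G] {A B : Subgroup G} [Finite B] (h : A ≤ B) {x : G} (hx : x ∈ B) (n : x ∉ A) :
    2 * Nat.card A ≤ Nat.card B := by
  obtain ⟨k, e⟩ := card_dvd_of_le h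
  have : Finite A := Finite.of_injective _ (inclusion_injective h)
  have k0 : k ≠ 0 := fun k0 => (Nat.card_pos (α := B)).ne' (by rw [e, k0, mul_zero])
  have k1 : k ≠ 1 := fun k1 => n ((eq_of_le_of_card_ge h (by rw [e, k1, mul_one])).ge hx)
  rw [e, mul_comm]
  exact Nat.mul_le_mul_left _ (by omega)

theorem am0 : AM0.{u} := by
  intro Ω _ S _ F T v w z s hS h
  have : Fact (Nat.Prime 2) := ⟨Nat.prime_two⟩
  have gen := h.gen
  have nV := h.nV
  obtain ⟨f, hf, f1, f2, -⟩ := h.rho
  rw [sup_bot_eq] at gen nV hf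
  have vT : v ∈ T := gen.ge (subset_closure (by simp))
  have wT : w ∈ T := gen.ge (subset_closure (by simp))
  have vi := inv_eq_of_mul_eq_one_right h.v2
  have wi := inv_eq_of_mul_eq_one_right h.w2
  have nc : v * w ≠ w * v := fun e => h.z1 (h.com ▸ commutatorElement_eq_one_iff_mul_comm.2 e)
  have wv : w * v * w⁻¹ = v * z := by
    rw [← h.com, commutatorElement_def, vi, ← mul_assoc, ← mul_assoc, ← mul_assoc, h.v2, one_mul]
  have z2 : z * z = 1 := by
    have : v * z * (v * z) = 1 := by rw [← wv, conj_mul, h.v2, mul_one, mul_inv_cancel]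
    rwa [mul_assoc, ← mul_assoc z, h.zc v vT, mul_assoc, ← mul_assoc, h.v2, one_mul] at this
  have v1 : v ≠ 1 := fun e => nc (by rw [e, one_mul, mul_one])
  have vz : v ≠ z := fun e => nc (e ▸ h.zc w wT)
  have hV : IsKleinFour (closure ({v, z} : Set Ω)) := isKleinFour_closure_pair
    (orderOf_eq_prime ((pow_two v).trans h.v2) v1) (orderOf_eq_prime ((pow_two z).trans z2) h.z1) vz (h.zc v vT).symm
  set V := closure ({v, z} : Set Ω) with eV
  have vV : v ∈ V := subset_closure (by simp)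
  have zV : z ∈ V := subset_closure (by simp)
  have VS := hf.le
  have cV : ∀ a ∈ V, v * a = a * v := fun a ha =>
    (closure_le (centralizer {v})).2 (by
      rintro _ (rfl | rfl)
      exacts [mem_centralizer_singleton_iff.2 rfl, mem_centralizer_singleton_iff.2 (h.zc v vT)]) ha v rfl
  have on : OnAut F V := fun k => by
    obtain ⟨α, hα, e⟩ := hf.exists_aut' le_rfl fun x hx => by
      induction hx using closure_induction with
      | mem x hx =>
        rcases hx with rfl | rfl
        exacts [f1 ▸ zV, f2 ▸ mul_mem vV zV]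
      | one => rw [hf.homOn.map_one]; exact one_mem _
      | mul x y hx hy a b => exact hf.homOn.map_mul hx hy ▸ mul_mem a b
      | inv x hx a => exact hf.homOn.map_inv hx ▸ inv_mem a
    have a1 : α ⟨v, vV⟩ = ⟨z, zV⟩ := Subtype.ext ((autFun_apply α vV).symm.trans ((e v vV).trans f1))
    have a2 : α ⟨z, zV⟩ = ⟨v, vV⟩ * ⟨z, zV⟩ := Subtype.ext ((autFun_apply α zV).symm.trans ((e z zV).trans f2))
    obtain ⟨j, hj⟩ := k ⟨α, hα⟩
    have : α ∈ MulAction.stabilizer (MulAut V) (⟨v, vV⟩ : V) := mem_of_pow_mem_of_coprime (n := 3)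
      (Nat.Coprime.coprime_dvd_left (orderOf_dvd_of_pow_eq_one (congrArg Subtype.val hj))
        (Nat.Coprime.pow_left j (by norm_num))) (by
        change α (α (α ⟨v, vV⟩)) = _
        rw [a1, a2, map_mul, a1, a2]
        exact Subtype.ext (by
          change z * (v * z) = v
          rw [← mul_assoc, h.zc v vT, mul_assoc, z2, mul_one]))
    exact vz (congrArg Subtype.val (this.symm.trans a1))
  have wV : w ∉ V := fun k => nc (cV w k)
  have hC : centralizer ((V.subgroupOf S : Subgroup S) : Set S) = V.subgroupOf S := by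
    refine le_antisymm (fun g k => ?_) fun g k a ha => Subtype.ext (IsKleinFour.comm_of_mem hV ha k)
    have gc : (g : Ω) ∈ 𝒞(V) := fun a ha => congrArg Subtype.val (k ⟨a, VS ha⟩ ha)
    have gT : (g : Ω) ∈ T := nV.le ⟨g.2, cent_le_norm V gc⟩
    have le : T ≤ V ⊔ zpowers w := gen.le.trans ((closure_le _).2 (by
      rintro _ (rfl | rfl)
      exacts [mem_sup_left vV, mem_sup_right (mem_zpowers _)]))
    obtain ⟨a, ha, _, ⟨m, rfl⟩, e⟩ := (mem_sup_nl (zpowers_le.2 (nV.ge wT).2)).1 (le gT)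
    rw [mem_subgroupOf, ← e]
    obtain ⟨r, rfl | rfl⟩ := Int.even_or_odd' m
    · simpa [zpow_mul, zpow_ofNat, pow_two, h.w2] using ha
    · refine (nc ?_).elim
      have := gc v vV
      rw [← e] at this
      simp only [zpow_add, zpow_mul, zpow_ofNat, pow_two, h.w2, one_zpow, one_mul, pow_one] at this
      rw [← mul_assoc, cV a ha, mul_assoc, mul_assoc] at this
      exact mul_left_cancel this
  obtain ⟨m, hm⟩ := IsPGroup.iff_card.1 hS
  have : Finite T := Finite.of_injective _ (inclusion_injective h.le)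
  have c1 := am0_two ((le_inf VS le_normalizer).trans nV.le) wT wV
  have c2 := am0_two h.le h.sS h.sT
  have h16 : 2 ^ 4 ≤ 2 ^ m := by rw [hV.card_four] at c1; omega
  rw [Nat.pow_le_pow_iff_right one_lt_two] at h16
  obtain ⟨n, rfl⟩ : ∃ n, m = n + 3 + 1 := ⟨m - 4, by omega⟩
  have hc : Nat.card (V.subgroupOf S) = 2 ^ 2 := by
    rw [Nat.card_congr (subgroupOfEquivOfLe VS).toEquiv, hV.card_four]; rfl
  obtain ⟨x, hx⟩ := exists_centralizer_eq_of_selfCentralizing_sq hS _ hc hC
  obtain ⟨a, b, k⟩ := exists_dqsGen_of_card_centralizer_le (by omega) hm x (by rw [hx, hc]; norm_num)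
  refine ⟨n, ?_⟩
  rcases k.cases with ⟨⟨e⟩⟩ | ⟨⟨e⟩⟩ | ⟨-, k⟩
  · obtain ⟨D⟩ := nonempty_MC_of_dihedral (by omega) e
    obtain ⟨i, hi, hi'⟩ := D.kleinFour_cases VS hV
    rw [hi, ← D.sp_of_zero hi'] at on
    refine .inl ⟨D, ?_, ⟨e⟩⟩
    obtain ⟨r, rfl | rfl⟩ := zm_even_or_odd i
    · exact .inl (by simpa using on.of_isConj (D.isConj_sp F _ (-r)))
    · exact .inr (by
        have := on.of_isConj (D.isConj_sp F _ (-r))
        rwa [show 2 * r + 1 + 2 * -r = 1 by ring] at this)
  · obtain ⟨D⟩ := nonempty_MC_of_quaternion (by omega) e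
    obtain ⟨i, -, hi⟩ := D.kleinFour_cases VS hV
    exact absurd (by simpa using hi) D.h2
  · obtain ⟨D⟩ := nonempty_MC_of_isQuasiDihedral k hm
    obtain ⟨i, hi, hi'⟩ := D.kleinFour_cases VS hV
    rw [hi, ← D.sp_of_zero hi'] at on
    obtain ⟨r, rfl | rfl⟩ := zm_even_or_odd i
    · exact .inr ⟨D, by simpa using on.of_isConj (D.isConj_sp F _ (-r)), k, hm⟩
    · exact absurd (by linear_combination hi' - r * D.h4) D.h2

end CL.HK
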