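/-
Project HK (S5175): the blocks given by the local `C(G,T)`-theorem.
-/
import Cfsg.Agent.HK.Core
import Cfsg.Agent.Even.NearCGT
import Cfsg.Agent.Even.Blk3
import Cfsg.Agent.Even.RkT
import Cfsg.Agent.S2980

set_option autoImplicit false

open Cfsg Subgroup
open scoped commutatorElement

namespace CL.HK

open CL.Fus CL.Loc CL.Grp CL.Even

universe u

section
variable {M : Type u} [Group M] [Finite M] {T E : Subgroup M}

theorem blk_W (h : IsBaumannBlock 2 T E) : bW 2 E = pCoreOf 2 E :=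
  ((pre_of_block h).exc.resolve_right fun c => absurd c.three (by norm_num)).symm

theorem blk_bk (hT : IsSylowIn 2 T ⊤) (hM : 𝒞(pCore 2 M) ≤ pCore 2 M) (hs : SubnIn E ⊤)
    (h : IsBaumannBlock 2 T E) : Bk T E := by
  have hE : IsCharP 2 E := (isCharP_top.2 hM).of_subnIn hs
  have hea : IsElementaryAbelian 2 (pCoreOf 2 E) := blk_W h ▸ ozc_elem _
  refine ⟨hT, h.1, hea, fun b => h.2.2.2.1 ?_, h.2.2.1, h.2.1, core_top (p := 2) (G := M) ▸ core_le_core_of_subnIn hs,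
    syl_inf_of_subnIn hs hT, le_antisymm hE (le_inf (core_le E) (elem_le_cent hea))⟩
  have c : E = ⊥ := eq_bot_iff.2 fun x hx => b ▸ hE ⟨hx, fun y hy => by rw [mem_bot.1 (b.le hy), one_mul, mul_one]⟩
  rw [c, commutator_bot_left]

theorem blk_a3 (h : IsBaumannBlock 2 T E) (hs : Sm 2 E (bW 2 E) (bZ 2 E)) : A3 E := by
  have hp := pre_of_block h
  have hW := blk_W h
  have hU := hs.card_U
  obtain ⟨-, ⟨N⟩⟩ := hs
  have hE := N.card_E
  rw [hp.ker, small_card2] at hE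
  have hS : IsSylowIn 2 (pCoreOf 2 E) E := ⟨core_le E, core_isP E, by
    have h1 := card_mul_relIndex (core_le (p := 2) E)
    rw [hE, mul_comm] at h1
    rw [Nat.eq_of_mul_eq_mul_right Nat.card_pos h1]
    norm_num⟩
  have hab : pCoreOf 2 E ≤ 𝒞(pCoreOf 2 E) := hW ▸ bW_ab E
  have h0 := comm_inf_cent_of_syl hab (core_isP E) (le_norm_core le_normalizer) hS hab
  rw [hp.commQ] at h0
  rw [bZ, hW, h0, card_bot] at hU
  exact ⟨hU, by rw [hE, hU]; norm_num⟩

theorem blk_type (h : IsBaumannBlock 2 T E)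
    (hn : ∀ m : ℕ, Nonempty (E ⧸ pCore 2 E ≃* alternatingGroup (Fin (2 * m + 1))) → ∃ n : ℕ, 2 * m + 1 = 2 ^ n + 1) :
    (∃ (K : Type) (_ : Field K) (_ : Fintype K), Lin K E) ∨ A3 E ∨ Alt 5 E ∨ ∃ n, 7 ≤ n ∧ Alt n E := by
  have hp := pre_of_block h
  have hW := blk_W h
  rcases h.2.2.2.2 with ⟨F, _, _, n, hF, -, hs, -⟩ | ⟨-, m, e, hs, -⟩
  · obtain ⟨N⟩ := linSec_of_actsAs hs
    have : CharP F 2 := charP_of_card (Nat.card_eq_fintype_card.trans hF)
    rcases N.sm_or_lg with h1 | ⟨-, K, _, _, hK, h3, h4⟩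
    · exact Or.inr (Or.inl (blk_a3 h h1.2))
    · have := Fintype.ofFinite K
      have hk := hp.ker
      rw [bZ, hW] at hk
      change Nonempty (NatSec K E (bW 2 E) (bW 2 E ⊓ 𝒞(E))) at h4
      rw [hW] at h4
      obtain ⟨N'⟩ := h4
      exact Or.inl ⟨K, _, this, hK, by rwa [Nat.card_eq_fintype_card] at h3, N', N'.ker_eq_cmod.trans hk⟩
  · obtain ⟨n, hn⟩ := hn m e
    have h0 : m ≠ 0 := by
      rintro rfl
      have := Nat.two_pow_pos n
      omega
    obtain rfl | rfl | hm := (show m = 1 ∨ m = 2 ∨ 3 ≤ m by omega)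
    · obtain ⟨N⟩ := permSec_of_actsAs hs
      exact Or.inr (Or.inl (blk_a3 h N.sm))
    all_goals
      change ActsAsOddPermModuleOnSection _ _ E (bW 2 E) (bW 2 E ⊓ 𝒞(E)) at hs
      rw [hW] at hs
    · exact Or.inr (Or.inr (Or.inl ⟨hs, e⟩))
    · exact Or.inr (Or.inr (Or.inr ⟨2 * m + 1, by omega, hs, e⟩))

end

theorem blk : BLK.{u} := by
  intro M _ _ T H hT hM hH hC hne
  obtain ⟨P, rfl⟩ := isSylowIn_top_iff.1 hT
  have h1 : charCore (P : Subgroup M) ≤ H := iSup_le fun C => hC _ (map_subtype_le _)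
    (fun a => C.2.1 ((map_eq_bot_iff_of_injective _ (subtype_injective _)).1 a)) (subgroupOf_char_of_map C.2.2)
  obtain ⟨𝓑, ⟨b1, b2, b3, b4, -⟩, b6⟩ := Cfsg.Agent.S2980.result hM P
    fun e => hH (eq_top_iff.2 (e.ge.trans ((charNormalizersJoin_le _).trans h1)))
  obtain ⟨L, hL, hLH⟩ : ∃ L ∈ 𝓑, ¬ L ≤ H := by
    by_contra a
    push Not at a
    exact hH (eq_top_iff.2 (b4.ge.trans (sup_le ((cStarOf_le_charCore P.isPGroup' hne).trans h1) (sSup_le a))))
  refine ⟨L, hLH, fun g => blk_bk hT hM (isSubnormal_of_blocks b2 b3 (b2 L hL g)) (b1 _ (b2 L hL g)), fun g => ?_,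
    blk_type (b1 L hL) (b6 L hL)⟩
  exact (Classical.em (cj g L = L)).imp_right (b3 _ (b2 L hL g) L hL)

end CL.HK
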