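/-
Project HK (S5175): the endgame over the field with two elements, assembled from its steps.
-/
import Cfsg.Agent.HK.ADefs

set_option autoImplicit false

open Cfsg Subgroup
open scoped commutatorElement MatrixGroups

namespace CL.HK

open CL.Fus CL.Loc CL.Grp CL.Inv

universe u

section
variable {Ω : Type u} [Group Ω] {S : Subgroup Ω} {F : FusionSystem S}

theorem caseA_univ {G : Type} [Group G] [Finite G] (T : Sylow 2 G) {θ : Ω → G} {η : G → Ω}
    (h : FIso F (groupFusionSystem (T : Subgroup G)) θ η) :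
    ∃ (L : Type u) (_ : Group L) (_ : Finite L) (ι : S →* L), F.IsRealizedBy ι ∧
      (∃ T : Sylow 2 L, (T : Subgroup L) = ι.range) ∧ Nonempty (L ≃* G) := by
  obtain ⟨L, _, ⟨e⟩⟩ := exists_equiv_universe.{u} G
  have hs : SylIn 2 h.homOn.toHom.range ⊤ := by rw [h.toGIso.range_toHom]; exact sylIn_top T
  exact ⟨L, inferInstance, Finite.of_equiv _ e.toEquiv, _, IsRealizedBy.comp_equiv h.isRealizedBy_toHom e,
    sylIn_top_iff.1 (sylIn_range_comp_equiv hs e), ⟨e.symm⟩⟩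

theorem caseA_mcr {G : Type} [Group G] [Finite G] {n : ℕ} {e : ZMod (2 ^ n)} (D : MC S n e 0)
    (hF : F.IsSaturated 2) {c₀ c₁ : Prop} (h : MCR G n e 0 c₀ c₁) (h0 : OnAut F (D.sp 0) ↔ c₀)
    (h1 : OnAut F (D.sp 1) ↔ c₁) :
    ∃ (L : Type u) (_ : Group L) (_ : Finite L) (ι : S →* L), F.IsRealizedBy ι ∧
      (∃ T : Sylow 2 L, (T : Subgroup L) = ι.range) ∧ Nonempty (L ≃* G) := by
  obtain ⟨T, D', a, b⟩ := h
  obtain ⟨θ, η, h⟩ := D.exists_fIso (Or.inl rfl) hF T D' (h0.trans a) (h1.trans b)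
  exact caseA_univ T h

theorem caseA_h32 [Finite S] (h0 : AH0.{u}) (h1 : AH1.{u}) {T D : Subgroup Ω} {v w z s : Ω} (hS : IsPGroup 2 S)
    (h : E2 F T D v w z s) (hD : D ≠ ⊥) : ∃ φ : Hm →* Ω, H32 F φ ∧ Hm.T0.map φ = T := by
  obtain ⟨w', d, s', rfl, hR, hT, hS'⟩ := h0 Ω S F T D v w z s hS h hD
  obtain ⟨φ, hi, ev, -, ez, ed, -, hr, hT0, hA⟩ := h1 Ω v w' z d s' hR
  obtain ⟨f, hf, f1, f2, f3⟩ := h.rho
  refine ⟨φ, ⟨hi, hr.trans hS'.symm, f, hA ▸ hf, ?_, ?_, ?_⟩, hT0.trans hT.symm⟩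
  · rw [ev, ez, f1]
  · rw [map_mul, ev, ez, f2]
  · rw [ed, f3 d (mem_zpowers d)]

end

structure StepsA : Prop where
  ag1 : AG1
  ag2 : AG2
  ag3 : AG3
  am0 : AM0.{u}
  aq : AQ.{u}
  ah0 : AH0.{u}
  ah0' : AH0.{0}
  ah1 : AH1.{u}
  ah1' : AH1.{0}
  ah5 : AH5.{u, 0}
  a6b : A6b
  a33 : A33

theorem StepsA.caseA (h : StepsA.{u}) : CaseA.{u} := by
  intro Ω _ S _ F T D v w z s hS hF hch hE
  by_cases hD : D = ⊥
  · subst hD
    obtain ⟨n, ⟨D, ho, hd⟩ | ⟨D, ho, hq, hc⟩⟩ := h.am0 Ω S F T v w z s hS hE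
    · have h8 : 8 ≤ 2 ^ (n + 3) := by have := Nat.one_le_two_pow (n := n); rw [pow_add]; omega
      by_cases h0 : OnAut F (D.sp 0)
      · by_cases h1 : OnAut F (D.sp 1)
        · obtain ⟨K, _, _, hK, hm⟩ := h.ag1.1 (n + 3) (by omega)
          obtain ⟨L, _, _, ι, a, b, c⟩ := caseA_mcr D hF hm (iff_true_intro h0) (iff_true_intro h1)
          exact ⟨L, inferInstance, inferInstance, ι, a, b,
            Or.inl ⟨⟨_, h8, hd⟩, K, inferInstance, inferInstance, hK, Or.inl c⟩⟩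
        · obtain ⟨K, _, _, hK, hm, -⟩ := h.ag2 (n + 3) (by omega)
          obtain ⟨L, _, _, ι, a, b, c⟩ := caseA_mcr D hF hm (iff_true_intro h0) (iff_false_intro h1)
          exact ⟨L, inferInstance, inferInstance, ι, a, b,
            Or.inl ⟨⟨_, h8, hd⟩, K, inferInstance, inferInstance, hK, Or.inr c⟩⟩
      · obtain ⟨K, _, _, hK, -, hm⟩ := h.ag2 (n + 3) (by omega)
        obtain ⟨L, _, _, ι, a, b, c⟩ := caseA_mcr D hF hm (iff_false_intro h0) (iff_true_intro (ho.resolve_left h0))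
        exact ⟨L, inferInstance, inferInstance, ι, a, b,
          Or.inl ⟨⟨_, h8, hd⟩, K, inferInstance, inferInstance, hK, Or.inr c⟩⟩
    · by_cases h1 : OnAut F (D.sp 1)
      · obtain _ | n := n
        · obtain ⟨L, _, _, ι, a, b, c⟩ := caseA_mcr D hF h.ag1.2 (iff_true_intro ho) (iff_true_intro h1)
          exact ⟨L, inferInstance, inferInstance, ι, a, b, Or.inr (Or.inr (Or.inl ⟨hq, hc, c⟩))⟩
        · exact absurd h1 (h.aq Ω S F n D hch)
      · obtain ⟨G, _, _, K, _, _, r, hr, hK, ⟨M, hM, hi, hz, ⟨e⟩⟩, hm⟩ := h.ag3 n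
        obtain ⟨L, _, _, ι, a, b, ⟨c⟩⟩ := caseA_mcr D hF hm (iff_true_intro ho) (iff_false_intro h1)
        refine ⟨L, inferInstance, inferInstance, ι, a, b, Or.inr (Or.inl ⟨hq, K, inferInstance, inferInstance, r, hr,
          hK, M.comap c.toMonoidHom, hM.comap _, ?_, ?_, ⟨(?_ : _ ≃* M).trans e⟩⟩)⟩
        · rw [index_comap_of_surjective _ c.surjective, hi]
        · refine eq_bot_iff.2 fun x hx => mem_bot.2 (c.injective ?_)
          rw [map_one, ← mem_bot, ← hz, mem_centralizer_iff]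
          intro y hy
          have := mem_centralizer_iff.1 hx (c.symm y) (by simpa using hy)
          simpa using congrArg c this
        · exact (MulEquiv.subgroupCongr (Subgroup.comap_equiv_eq_map_symm' c M)).trans (c.symm.subgroupMap M).symm
  · obtain ⟨φ, hφ, hT⟩ := caseA_h32 h.ah0 h.ah1 hS hE hD
    have hc : Nat.card S = 32 := by
      rw [← hφ.rng, ← Hm.card_eq]; exact (Nat.card_congr (MonoidHom.ofInjective hφ.inj).toEquiv).symm
    by_cases hs : F.StronglyClosed (Hm.T0.map φ)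
    · obtain ⟨P, T', D', v', w', z', s', hE', hD', hs'⟩ := h.a6b
      obtain ⟨φ', hφ', hT'⟩ := caseA_h32 h.ah0' h.ah1' P.isPGroup' hE' hD'
      obtain ⟨θ, η, hI⟩ := h.ah5 Ω S F φ _ _ _ φ' hF (GS.isSaturated_group (sylIn_top P)) hφ hφ'
        (iff_of_true hs (hT' ▸ hs'))
      obtain ⟨L, _, _, ι, a, b, c⟩ := caseA_univ P hI
      exact ⟨L, inferInstance, inferInstance, ι, a, b, Or.inr (Or.inr (Or.inr (Or.inl ⟨hc, Or.inl c⟩)))⟩
    · obtain ⟨G, _, _, P, φ', ⟨e⟩, hφ', hs'⟩ := h.a33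
      obtain ⟨θ, η, hI⟩ := h.ah5 Ω S F φ _ _ _ φ' hF (GS.isSaturated_group (sylIn_top P)) hφ hφ'
        (iff_of_false hs hs')
      obtain ⟨L, _, _, ι, a, b, ⟨c⟩⟩ := caseA_univ P hI
      exact ⟨L, inferInstance, inferInstance, ι, a, b, Or.inr (Or.inr (Or.inr (Or.inl ⟨hc, Or.inr ⟨c.trans e⟩⟩)))⟩

end CL.HK
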