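/-
Project HK (S5175), case (c): assembly from the parts.
-/
import Cfsg.Agent.HK.JM
import Cfsg.Agent.S2135
import Cfsg.Agent.S1625

set_option autoImplicit false

open Cfsg Subgroup
open scoped commutatorElement

namespace CL.HK.J

open CL.Fus CL.Grp CL.J23

universe u

namespace JCasex

section
variable {Ω Ω' : Type u} [Group Ω] [Group Ω'] {S : Subgroup Ω} {S' : Subgroup Ω'} {K : Type} [Field K] [Fintype K]
  {F : FusionSystem S} {F' : FusionSystem S'} {ε : Bool} {θ : K ≃+* K} {T : Subgroup Ω} {v w y z : K → Ω} {s : Ω}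
  {T' : Subgroup Ω'} {v' w' y' z' : K → Ω'} {s' : Ω'} {ω : K} {Θ : Ω → Ω'} {η : Ω' → Ω}

theorem ni [Finite S] (bas : JBAS.{u}) (esc : JESC.{u}) (ch : JCH.{u}) (sc : JSC.{u}) (hS : IsPGroup 2 S)
    (hF : F.IsSaturated 2) (g : GD S ε θ T v w y z s) (h : ¬ F.StronglyClosed T) :
    (∃ ω, Q4 ε θ ω) ∧ NI F (Es v w y s) T := by
  obtain ⟨E, hE, n⟩ := sc Ω S F T hS hF g.le (ch Ω S F K ε θ T v w y z s g (bas _ _ _ _ _ _ _ _ _ _ _ g)) h
  obtain ⟨q, rfl⟩ := esc Ω S F K ε θ T v w y z s E hS hF g hE n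
  exact ⟨q, n⟩

theorem par [Finite S] (bas : JBAS.{u}) (e4 : JE4.{u}) (ae : JAE.{u}) (ex : JEX.{u}) (pa : JPAR.{u})
    (hS : IsPGroup 2 S) (hF : F.IsSaturated 2) (g : QD F ε θ T v w y z s) (q : Q4 ε θ ω) (n : NI F (Es v w y s) T) :
    Par F T v w y z = {c | c.2.2 = RingEquiv.refl K} := by
  have b := bas _ _ _ _ _ _ _ _ _ _ _ g.jgd
  have e := e4 _ _ _ _ _ _ _ _ _ _ _ ω g.jgd b q
  obtain ⟨f, f1, f2, f3⟩ := (ae Ω S F K ε θ T v w y z s ω hS hF g.jgd b q e n).2 (Equiv.swap 2 4 * Equiv.swap 2 3)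
    (by rw [Equiv.Perm.mem_alternatingGroup]; decide)
  obtain ⟨k, k1, k2⟩ := ex Ω S F K ε θ T v w y z s ω hS hF g.jgd b q e f f1 f2 f3
  exact pa Ω S F K ε θ T v w y z s ω hS hF g b q e k k1 (fun x hx => k2 x hx ▸ f2.le (mem_img_of_mem f hx))
    fun i => k2 _ (e.qE i) ▸ f3 i

/-- the coordinates correspond -/
structure Cor (Θ : Ω → Ω') (v w y z : K → Ω) (s : Ω) (v' w' y' z' : K → Ω') (s' : Ω') : Prop where
  v : ∀ a, Θ (v a) = v' a
  w : ∀ a, Θ (w a) = w' a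
  y : ∀ a, Θ (y a) = y' a
  z : ∀ a, Θ (z a) = z' a
  s : Θ s = s'

theorem Cor.symm (c : Cor Θ v w y z s v' w' y' z' s') (h : GIso S S' Θ η) (g : GD S ε θ T v w y z s) :
    Cor η v' w' y' z' s' v w y z s :=
  ⟨fun a => c.v a ▸ h.left _ (g.le (g.vT a)), fun a => c.w a ▸ h.left _ (g.le (g.wT a)),
    fun a => c.y a ▸ h.left _ (g.le (g.yT a)), fun a => c.z a ▸ h.left _ (g.le (g.zT a)), c.s ▸ h.left _ g.sS⟩

theorem Cor.el (c : Cor Θ v w y z s v' w' y' z' s') (h : GIso S S' Θ η) (g : GD S ε θ T v w y z s) (a b d e : K) :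
    Θ (el v w y z a b d e) = el v' w' y' z' a b d e := by
  have m1 := g.le (g.vT a)
  have m2 := g.le (g.wT b)
  have m3 := g.le (g.yT d)
  have m4 := g.le (g.zT e)
  unfold J.el
  rw [h.homOn _ (mul_mem (mul_mem m1 m2) m3) _ m4, h.homOn _ (mul_mem m1 m2) _ m3, h.homOn _ m1 _ m2, c.v, c.w, c.y,
    c.z]

theorem Cor.es (c : Cor Θ v w y z s v' w' y' z' s') (h : GIso S S' Θ η) (g : GD S ε θ T v w y z s)
    (b : Bas S ε θ T v w y z s) (e : E4 S T v w y z s ω) (e' : E4 S' T' v' w' y' z' s' ω) :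
    img Θ (Es v w y s) = Es v' w' y' s' := by
  have k : ∀ a d, Θ (J.el v w y z a (a ^ 2) d 0 * s) = J.el v' w' y' z' a (a ^ 2) d 0 * s' := fun a d => by
    rw [h.homOn _ (g.le ((b.memT _).2 ⟨_, _, _, _, rfl⟩)) _ g.sS, c.el h g, c.s]
  ext x
  rw [h.mem_img e.le, e'.mem]
  constructor
  · rintro ⟨x, hx, rfl⟩
    obtain ⟨a, d, rfl | rfl⟩ := (e.mem x).1 hx
    exacts [⟨a, d, .inl (c.el h g _ _ _ _)⟩, ⟨a, d, .inr (k a d)⟩]
  · rintro ⟨a, d, rfl | rfl⟩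
    exacts [⟨_, (e.mem _).2 ⟨a, d, .inl rfl⟩, c.el h g _ _ _ _⟩, ⟨_, (e.mem _).2 ⟨a, d, .inr rfl⟩, k a d⟩]

theorem Cor.qq (c : Cor Θ v w y z s v' w' y' z' s') (h : GIso S S' Θ η) (g : GD S ε θ T v w y z s) (i : Fin 5) :
    Θ (qq v w y s ω i) = qq v' w' y' s' ω i := by
  have k : ∀ a d, Θ (v a * w d * s) = v' a * w' d * s' := fun a d => by
    rw [h.homOn _ (g.le (mul_mem (g.vT a) (g.wT d))) _ g.sS, h.homOn _ (g.le (g.vT a)) _ (g.le (g.wT d)), c.v, c.w,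
      c.s]
  fin_cases i
  exacts [c.y _, c.s, k _ _, k _ _, k _ _]

theorem half [Finite S] [Finite S'] (bas : JBAS.{u}) (e4 : JE4.{u}) (esc : JESC.{u}) (ae : JAE.{u}) (essa : ESSa.{u})
    (hS : IsPGroup 2 S) (hS' : IsPGroup 2 S') (hF : F.IsSaturated 2) (hF' : F'.IsSaturated 2)
    (g : QD F ε θ T v w y z s) (g' : QD F' ε θ T' v' w' y' z' s') (q : Q4 ε θ ω) (n' : NI F' (Es v' w' y' s') T')
    (h : GIso S S' Θ η) (c : Cor Θ v w y z s v' w' y' z' s')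
    (hA : ∀ A, (A = S ∨ A = T ∨ A = sp v y z ∨ A = sp w y z) → ∀ f, Mor F A f → img f A = A →
      Mor F' (img Θ A) fun x => Θ (f (η x))) :
    ∀ P f, Mor F P f → Mor F' (img Θ P) fun x => Θ (f (η x)) := by
  have b := bas _ _ _ _ _ _ _ _ _ _ _ g.jgd
  have b' := bas _ _ _ _ _ _ _ _ _ _ _ g'.jgd
  have e := e4 _ _ _ _ _ _ _ _ _ _ _ ω g.jgd b q
  have e' := e4 _ _ _ _ _ _ _ _ _ _ _ ω g'.jgd b' q
  have sub : F.IsSubsystemOf (h.symm.transport F') := by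
    refine alperin_subsystem hS hF fun A a hE ha hi => h.symm.mor_transport.2 ⟨ha.le, fun _ hx => ha.mem hx, ?_⟩
    rcases hE with rfl | hE
    · exact hA _ (.inl rfl) a ha hi
    by_cases n : NI F A T
    swap
    · refine hA A (.inr ?_) a ha hi
      have := essa Ω S F K ε θ T v w y z s A hS hF g hE fun f hf m x hx hT => by_contra fun k =>
        n ⟨f, hf, hf.img_eq_self le_rfl m, x, hx, hT, k⟩
      tauto
    obtain ⟨-, rfl⟩ := esc Ω S F K ε θ T v w y z s A hS hF g.jgd hE n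
    obtain ⟨σ, hσ, k⟩ := ((ae Ω S F K ε θ T v w y z s ω hS hF g.jgd b q e n).1 a ha.homOn hi).1 ha
    have es := c.es h g.jgd b e e'
    have es' : img η (Es v' w' y' s') = Es v w y s := es ▸ h.img_img e.le
    have m : ∀ x ∈ Es v' w' y' s', η x ∈ Es v w y s := fun x hx => es' ▸ mem_img_of_mem η hx
    have h1 : HomOn (Es v' w' y' s') η := h.symm.homOn.mono e'.le
    have h2 := h1.comp ha.homOn m
    rw [es]
    refine ((ae Ω' S' F' K ε θ T' v' w' y' z' s' ω hS' hF' g'.jgd b' q e' n').1 _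
      (h2.comp h.homOn fun x hx => ha.mem (m x hx)) ?_).2 ⟨σ, hσ, fun i => ?_⟩
    · rw [h2.img_comp, h1.img_comp, es', hi, es]
    · show Pm _ _ (Θ (a (η _))) _
      rw [← c.qq h g.jgd i, h.left _ (e.le (e.qE i))]
      rcases k i with k | k
      · exact .inl (k ▸ c.qq h g.jgd _)
      · refine .inr ?_
        rw [k, h.homOn _ (e.le (e.qE _)) _ (g.le (g.yT 1)), c.qq h g.jgd, c.y]
  exact fun P f hf => (h.symm.mor_transport.1 (hf.of_subsystem sub)).2.2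

end

theorem model (K : Type) [Field K] [Fintype K] (hK : Fintype.card K = 4) (ω : K) (hω : ω ^ 2 + ω + 1 = 0) :
    ∃ (G : Type u) (_ : Group G) (_ : Finite G), Spor.IsoJ3 G ∧ Nat.card G = 50232960 ∧
      ∀ x y : G, orderOf x = 2 → orderOf y = 2 → IsConj x y := by
  have hc : Nat.card (Spor.J3 K ω) = 50232960 := (Cfsg.Agent.S1625.result K hK ω hω).2.2.1
  have : Finite (Spor.J3 K ω) := Nat.finite_of_card_ne_zero (by omega)
  obtain ⟨G, _, ⟨e⟩⟩ := exists_equiv_universe.{u} (Spor.J3 K ω)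
  refine ⟨G, _, Finite.of_equiv _ e.toEquiv, ⟨K, _, _, ω, hK, hω, ⟨e.symm⟩⟩, (Nat.card_congr e.toEquiv).symm.trans hc,
    fun x y hx hy => ?_⟩
  have := e.toMonoidHom.map_isConj ((Cfsg.Agent.S2135.result hK ω hω).1 (e.symm x) (e.symm y)
    ((e.symm.orderOf_eq x).trans hx) ((e.symm.orderOf_eq y).trans hy))
  simpa using this

end JCasex

open JCasex in
theorem caseC_of (bas : JBAS.{u}) (e4 : JE4.{u}) (esc : JESC.{u}) (ch : JCH.{u}) (sc : JSC.{u}) (ae : JAE.{u})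
    (ex : JEX.{u}) (pa : JPAR.{u}) (qd : JQD.{u}) (jg : JG.{u}) (gv : JGV.{u}) (essa : ESSa.{u}) (uq : UQ.{u, u}) :
    CaseC.{u} := by
  intro Ω _ S _ F K _ _ ε θ T v w y z s hS hF g hT
  obtain ⟨⟨ω, q⟩, n⟩ := ni bas esc ch sc hS hF g.jgd hT
  obtain rfl := q.eps
  have := g.chr
  obtain ⟨G, _, _, hG, cG, cj⟩ := model.{u} K q.card ω (by rw [q.sq, add_assoc]; exact CharTwo.add_self_eq_zero _)
  obtain ⟨a₁, a₂, b₁, b₂, c₁, c₂, s', m, h, k, r⟩ := jm G hG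
  obtain ⟨S', T', v', w', y', g₀, ev⟩ := jg G _ _ _ _ _ _ _ _ _ _ r K θ ω q
  have b := bas _ _ _ _ _ _ _ _ _ _ _ g.jgd
  have e := e4 _ _ _ _ _ _ _ _ _ _ _ ω g.jgd b q
  have b' := bas _ _ _ _ _ _ _ _ _ _ _ g₀
  have e' := e4 _ _ _ _ _ _ _ _ _ _ _ ω g₀ b' q
  have hS' : IsPGroup 2 S' := IsPGroup.of_card (n := 7) e'.cardS
  let P : Sylow 2 G := Sylow.ofCard S' (by rw [e'.cardS, cG]; decide +kernel)
  have sy : SylIn 2 S' ⊤ := sylIn_top_iff.2 ⟨P, rfl⟩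
  have hF' := GS.isSaturated_group sy
  have g' := qd G S' _ K _ θ T' v' w' y' _ s' ω hS' hF' g₀ q
    (gv G _ _ _ _ _ _ _ _ _ _ r K θ ω S' T' v' w' y' q g₀ b' ev)
  have hT' : ¬ (groupFusionSystem S').StronglyClosed T' := fun hc => by
    rw [GS.groupFusionSystem_eq, GS.stronglyClosed_iff] at hc
    obtain ⟨x, hx⟩ := isConj_iff.1 (cj (y' 1) s' (orderOf_eq_prime (by rw [pow_two]; exact e'.qg.z2) e'.qg.z1)
      (orderOf_eq_prime (by rw [pow_two]; exact g₀.s2) fun e => g₀.sT (e ▸ one_mem _)))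
    exact g₀.sT (hx ▸ hc.2 _ (g₀.yT 1) x trivial (hx ▸ g₀.sS))
  have n' := (ni bas esc ch sc hS' hF' g₀ hT').2
  obtain ⟨Θ, η, i, t1, t2, t3, t4, t5, hA, hA'⟩ := uq Ω S F G S' _ K false θ T v w y z s T' v' w' y' _ s' hS hF hF' g g'
    ((par bas e4 ae ex pa hS hF g q n).trans (par bas e4 ae ex pa hS' hF' g' q n').symm)
  have c : Cor Θ v w y z s v' w' y' (fun _ => 1) s' := ⟨t1, t2, t3, t4, t5⟩
  have f : FIso F (groupFusionSystem S') Θ η :=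
    ⟨i, half bas e4 esc ae essa hS hS' hF hF' g g' q n' i c hA,
      half bas e4 esc ae essa hS' hS hF' hF g' g q n i.symm (c.symm i g.jgd) hA'⟩
  exact ⟨G, _, inferInstance, _, f.isRealizedBy_toHom, ⟨P, i.range_toHom.symm⟩,
    .inr (.inr (.inr (.inr (.inl ⟨e.cardS, hG⟩))))⟩

end CL.HK.J
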