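/-
Project HK (S5175), case (c).
-/
import Cfsg.Agent.HK.JCase
import Cfsg.Agent.HK.JBas
import Cfsg.Agent.HK.JTri
import Cfsg.Agent.HK.JE4
import Cfsg.Agent.HK.JII
import Cfsg.Agent.HK.JIA
import Cfsg.Agent.HK.JIB1
import Cfsg.Agent.HK.JIB2
import Cfsg.Agent.HK.JIC
import Cfsg.Agent.HK.JEsc
import Cfsg.Agent.HK.JCh
import Cfsg.Agent.HK.JTwo
import Cfsg.Agent.HK.JXS
import Cfsg.Agent.HK.JS5
import Cfsg.Agent.HK.JAE
import Cfsg.Agent.HK.JEX
import Cfsg.Agent.HK.JPar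
import Cfsg.Agent.HK.JFN
import Cfsg.Agent.HK.JTI
import Cfsg.Agent.HK.JBO
import Cfsg.Agent.HK.JMon
import Cfsg.Agent.HK.JQD
import Cfsg.Agent.HK.JG
import Cfsg.Agent.HK.JGV

set_option autoImplicit false

namespace CL.HK

open J

universe u

theorem caseC (essa : ESSa.{u}) (uq : UQ.{u, u}) : CaseC.{u} :=
  caseC_of jbas je4 (jesc jbas jtri je4 jii jia jib1 jib2 jic) jch jsc (jae jxs js5) (jex jxs) (jpar jch (jp0 jtwo))
    (jqd jbas je4 jfn jti jbo (jmon jtwo) (jp0 jtwo)) jg jgv essa uq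

end CL.HK
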